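import Cfsg.Agent.Lib.Lie.ChevSylow
import Cfsg.Agent.Lib.Lie.ChevLong

/-!
# The elements of a Chevalley group used in the theory of weights
-/

set_option autoImplicit false
set_option linter.style.haveILetI false

namespace Cfsg.Agent.Richen

open Cfsg.Lie Cfsg.Agent.Chev Cfsg.Agent.Chev.Tab

universe v

variable {T : Tab} {F : Type v} [Field F]

/-- the fundamental positive root elements -/
noncomputable def eX (g : T.Good) (F : Type v) [Field F] (i : ℕ) (t : F) : ↥(T.D.group F) :=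
  ⟨xg g (T.smp i) t, xg_mem_group g _ _⟩

/-- the fundamental negative root elements -/
noncomputable def eY (g : T.Good) (F : Type v) [Field F] (i : ℕ) (t : F) : ↥(T.D.group F) :=
  ⟨xg g (T.neg (T.smp i)) t, xg_mem_group g _ _⟩

/-- the representatives of the fundamental reflections -/
noncomputable def eN (g : T.Good) (F : Type v) [Field F] (i : ℕ) : ↥(T.D.group F) :=
  ⟨nG g F i, nG_mem_group g i⟩

/-- the torus -/
noncomputable def eT (g : T.Good) (F : Type v) [Field F] : (ℕ → Fˣ) →* ↥(T.D.group F) :=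
  (tor T F).codRestrict (T.D.group F) (tor_mem_group g)

/-- the fundamental coroots -/
noncomputable def eH (g : T.Good) (F : Type v) [Field F] (i : ℕ) (u : Fˣ) : ↥(T.D.group F) :=
  eT g F (Pi.mulSingle i u)

/-- products of representatives -/
noncomputable def eW (g : T.Good) (F : Type v) [Field F] (L : List ℕ) : ↥(T.D.group F) :=
  (L.map (eN g F)).prod

@[simp] theorem eX_coe (g : T.Good) (i : ℕ) (t : F) :
    ((eX g F i t : ↥(T.D.group F)) : GL T.D.Idx F) = xg g (T.smp i) t := rfl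

@[simp] theorem eY_coe (g : T.Good) (i : ℕ) (t : F) :
    ((eY g F i t : ↥(T.D.group F)) : GL T.D.Idx F) = xg g (T.neg (T.smp i)) t := rfl

@[simp] theorem eN_coe (g : T.Good) (i : ℕ) :
    ((eN g F i : ↥(T.D.group F)) : GL T.D.Idx F) = nG g F i := rfl

@[simp] theorem eT_coe (g : T.Good) (c : ℕ → Fˣ) :
    ((eT g F c : ↥(T.D.group F)) : GL T.D.Idx F) = tor T F c := rfl

@[simp] theorem eH_coe (g : T.Good) (i : ℕ) (u : Fˣ) :
    ((eH g F i u : ↥(T.D.group F)) : GL T.D.Idx F) = hS T F i u := rfl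

@[simp] theorem eW_coe (g : T.Good) (L : List ℕ) :
    ((eW g F L : ↥(T.D.group F)) : GL T.D.Idx F) = nWd g F L := by
  induction L with
  | nil => rfl
  | cons i L ih =>
    rw [nWd_cons, ← ih]
    simp only [eW, List.map_cons, List.prod_cons, Subgroup.coe_mul, eN_coe]

theorem eW_cons (g : T.Good) (i : ℕ) (L : List ℕ) : eW g F (i :: L) = eN g F i * eW g F L := by
  simp [eW]

theorem eX_add (g : T.Good) (i : ℕ) (s t : F) : eX g F i s * eX g F i t = eX g F i (s + t) :=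
  Subtype.ext (xg_add g _ _ _)

theorem eX_zero (g : T.Good) (i : ℕ) : eX g F i (0 : F) = 1 := Subtype.ext (xg_zero g _)

theorem eY_zero (g : T.Good) (i : ℕ) : eY g F i (0 : F) = 1 := Subtype.ext (xg_zero g _)

theorem eX_inv (g : T.Good) (i : ℕ) (t : F) : (eX g F i t)⁻¹ = eX g F i (-t) :=
  Subtype.ext (xg_inv g _ _)

theorem eH_mul (g : T.Good) (i : ℕ) (u v : Fˣ) : eH g F i (u * v) = eH g F i u * eH g F i v :=
  Subtype.ext (hS_mul i u v)

theorem eH_one (g : T.Good) (i : ℕ) : eH g F i (1 : Fˣ) = 1 := Subtype.ext (hS_one i)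

theorem eN_X (g : T.Good) {i : ℕ} (hi : i < T.l) (t : F) :
    eN g F i * eX g F i t = eY g F i (-t) * eN g F i := by
  refine Subtype.ext (mul_inv_eq_iff_eq_mul.1 ?_)
  show nG g F i * xg g (T.smp i) t * (nG g F i)⁻¹ = _
  rw [nG_conj g hi (g.smp_lt hi), g.ref_smp hi, g.eta_smp hi, eY_coe]
  push_cast
  rw [neg_one_mul]

theorem eN_sq (g : T.Good) {i : ℕ} (hi : i < T.l) : eN g F i * eN g F i = eH g F i (-1) :=
  Subtype.ext (nG_sq g hi)

theorem eN_inv (g : T.Good) {i : ℕ} (hi : i < T.l) :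
    (eN g F i)⁻¹ = eH g F i (-1) * eN g F i := by
  refine inv_eq_of_mul_eq_one_left ?_
  rw [mul_assoc, eN_sq g hi, ← eH_mul, neg_one_mul, _root_.neg_neg, eH_one]

theorem eH_X (g : T.Good) {i : ℕ} (hi : i < T.l) (u : Fˣ) (t : F) :
    eH g F i u * eX g F i t = eX g F i ((u : F) ^ 2 * t) * eH g F i u := by
  refine Subtype.ext (mul_inv_eq_iff_eq_mul.1 ?_)
  show hS T F i u * xg g (T.smp i) t * (hS T F i u)⁻¹ = _
  rw [hS, tor_xg g _ (g.smp_lt hi), wt_single g hi, A_smp_self g hi, eX_coe]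
  simp [zpow_two, sq]

theorem eN_Y (g : T.Good) {i : ℕ} (hi : i < T.l) (t : F) :
    eN g F i * eY g F i t = eX g F i (-t) * eN g F i := by
  have h1 := eN_X g hi (-t)
  rw [_root_.neg_neg] at h1
  have h2 : eY g F i t = eN g F i * eX g F i (-t) * (eN g F i)⁻¹ := by rw [h1, mul_inv_cancel_right]
  rw [h2, ← mul_assoc, ← mul_assoc, eN_sq g hi, eH_X g hi, mul_assoc _ (eH g F i (-1)),
    ← eN_sq g hi, mul_assoc, mul_inv_cancel, mul_one]
  simp

theorem eN_H (g : T.Good) {i : ℕ} (hi : i < T.l) (u : Fˣ) :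
    eN g F i * eH g F i u = eH g F i u⁻¹ * eN g F i := Subtype.ext (nG_hS g hi u)

theorem eY_eq (g : T.Good) {i : ℕ} (hi : i < T.l) (u : Fˣ) :
    eY g F i (-(u : F)⁻¹) =
      eX g F i (-(u : F)) * (eH g F i u * eN g F i) * eX g F i (-(u : F)) := by
  have h : eX g F i (u : F) * eY g F i (-(u : F)⁻¹) * eX g F i (u : F) =
      eH g F i u * eN g F i := Subtype.ext (nE_simple g hi u)
  rw [← h, ← eX_inv]
  group

theorem eT_conj (g : T.Good) (c : ℕ → Fˣ) {i : ℕ} (hi : i < T.l) :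
    ∃ α : Fˣ, ∀ t, eT g F c * eX g F i t = eX g F i ((α : F) * t) * eT g F c := by
  refine ⟨wt T F c (T.smp i), fun t => Subtype.ext (mul_inv_eq_iff_eq_mul.1 ?_)⟩
  exact tor_xg g c (g.smp_lt hi) t

theorem eT_pass (g : T.Good) (c : ℕ → Fˣ) {i : ℕ} (hi : i < T.l) :
    ∃ d, eT g F c * eN g F i = eN g F i * eT g F d := by
  obtain ⟨d, hd⟩ := wSub_conj_torus g (inv_mem (nG_mem_wSub (F := F) g hi)) c
  refine ⟨d, Subtype.ext ?_⟩
  show tor T F c * nG g F i = nG g F i * tor T F d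
  rw [← hd]
  group

/-- the positive unipotent subgroup -/
noncomputable def gU (g : T.Good) (F : Type v) [Field F] : Subgroup ↥(T.D.group F) :=
  (genS g F (Set.Ico T.N T.n)).subgroupOf (T.D.group F)

/-- the negative unipotent subgroup -/
noncomputable def gV (g : T.Good) (F : Type v) [Field F] : Subgroup ↥(T.D.group F) :=
  (genS g F (Set.Iio T.N)).subgroupOf (T.D.group F)

/-- the positive roots but one -/
noncomputable def gE (g : T.Good) (F : Type v) [Field F] (i : ℕ) : Subgroup ↥(T.D.group F) :=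
  (genS g F (T.posExc i)).subgroupOf (T.D.group F)

/-- the negative roots but one -/
noncomputable def gD (g : T.Good) (F : Type v) [Field F] (i : ℕ) : Subgroup ↥(T.D.group F) :=
  (genS g F {r | r < T.N ∧ r ≠ T.neg (T.smp i)}).subgroupOf (T.D.group F)

theorem eX_mem_gU (g : T.Good) {i : ℕ} (hi : i < T.l) (t : F) : eX g F i t ∈ gU g F :=
  xg_mem_genS g (S := Set.Ico T.N T.n) ⟨g.smp_ge hi, g.smp_lt hi⟩ t

theorem eY_mem_gV (g : T.Good) {i : ℕ} (hi : i < T.l) (t : F) : eY g F i t ∈ gV g F :=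
  xg_mem_genS g (S := Set.Iio T.N) ((neg_lt_N_iff (g.smp_lt hi)).2 (g.smp_ge hi)) t

theorem gE_le (g : T.Good) (i : ℕ) : gE g F i ≤ gU g F := fun _ h =>
  genS_mono g (S := T.posExc i) (S' := Set.Ico T.N T.n) (fun _ hr => ⟨hr.1, hr.2.1⟩) h

theorem gD_le (g : T.Good) (i : ℕ) : gD g F i ≤ gV g F := fun _ h =>
  genS_mono g (fun _ hr => hr.1) h

theorem subgroupOf_normalizer {Γ : Type*} [Group Γ] {G : Subgroup Γ} (A : Subgroup Γ) (x : ↥G)
    (h : (x : Γ) ∈ Subgroup.normalizer (A : Set Γ)) {y : ↥G} (hy : y ∈ A.subgroupOf G) :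
    x * y * x⁻¹ ∈ A.subgroupOf G :=
  (Subgroup.mem_normalizer_iff.1 h _).1 hy

theorem eX_gE (g : T.GoodA) {i : ℕ} (hi : i < T.l) (t : F) {e : ↥(T.D.group F)}
    (he : e ∈ gE g.toGood F i) :
    eX g.toGood F i t * e * (eX g.toGood F i t)⁻¹ ∈ gE g.toGood F i :=
  subgroupOf_normalizer (genS g.toGood F (T.posExc i)) (eX g.toGood F i t)
    (posExc_normalized g hi (g.smp_ge hi) (g.smp_lt hi) t) he

theorem eY_gE (g : T.GoodA) {i : ℕ} (hi : i < T.l) (t : F) {e : ↥(T.D.group F)}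
    (he : e ∈ gE g.toGood F i) :
    eY g.toGood F i t * e * (eY g.toGood F i t)⁻¹ ∈ gE g.toGood F i :=
  subgroupOf_normalizer (genS g.toGood F (T.posExc i)) (eY g.toGood F i t)
    (posExc_normalized_neg g hi t) he

theorem eN_gE (g : T.GoodA) {i : ℕ} (hi : i < T.l) {e : ↥(T.D.group F)}
    (he : e ∈ gE g.toGood F i) :
    eN g.toGood F i * e * (eN g.toGood F i)⁻¹ ∈ gE g.toGood F i :=
  subgroupOf_normalizer (genS g.toGood F (T.posExc i)) (eN g.toGood F i) (nG_normalizes g.toGood hi (S := T.posExc i) (fun _ hr => hr.2.1)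
    fun _ hr => ref_posExc g.toGood hi hr) he

theorem eT_gU (g : T.Good) (c : ℕ → Fˣ) {e : ↥(T.D.group F)} (he : e ∈ gU g F) :
    eT g F c * e * (eT g F c)⁻¹ ∈ gU g F :=
  subgroupOf_normalizer (genS g F (Set.Ico T.N T.n)) (eT g F c) (tor_normalizes g (fun _ hr => hr.2) c) he

theorem eT_gV (g : T.Good) (c : ℕ → Fˣ) {e : ↥(T.D.group F)} (he : e ∈ gV g F) :
    eT g F c * e * (eT g F c)⁻¹ ∈ gV g F :=
  subgroupOf_normalizer (genS g F (Set.Iio T.N)) (eT g F c) (tor_normalizes g (fun r hr => by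
    have := n_def (T := T); have : r < T.N := hr; omega) c) he

theorem gU_split (g : T.GoodA) {i : ℕ} (hi : i < T.l) {u : ↥(T.D.group F)}
    (hu : u ∈ gU g.toGood F) :
    ∃ e ∈ gE g.toGood F i, ∃ t : F, u = e * eX g.toGood F i t := by
  obtain ⟨u', hu', t, ht⟩ := pos_split g hi hu
  exact ⟨⟨u', genS_le g.toGood (fun r _ s => xg_mem_group g.toGood r s) hu'⟩, hu', t, Subtype.ext ht⟩

/-- The longest element permutes the fundamental roots up to sign. -/
theorem exists_opp (g : T.Good) {L₀ : List ℕ} (hL₀ : T.Wd L₀)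
    (h₀ : ∀ s, T.N ≤ s → s < T.n → T.rw' L₀ s < T.N) {i : ℕ} (hi : i < T.l) :
    ∃ j < T.l, T.rw' L₀ (T.smp j) = T.neg (T.smp i) := by
  have hw : T.Wd (i :: L₀) := Wd.cons_iff.2 ⟨hi, hL₀⟩
  by_contra hc
  push Not at hc
  have hall := inverts_all g hw fun j hj => by
    rw [rw'_cons]
    by_contra hpos
    have hn := h₀ _ (g.smp_ge hj) (g.smp_lt hj)
    have hlt := rw'_lt g hL₀ (g.smp_lt hj)
    have h1 := g.ref_pos hi (neg_lt hlt) ((N_le_neg_iff hlt).2 hn) fun e => hc j hj (by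
      rw [← e, Tab.neg_neg hlt])
    rw [g.ref_neg hi hlt, N_le_neg_iff (g.ref_lt hi hlt)] at h1
    exact hpos h1
  set s := T.rw' L₀.reverse (T.neg (T.smp i)) with hs
  have hsn : s < T.n := rw'_lt g hL₀.reverse (neg_lt (g.smp_lt hi))
  have e : T.rw' L₀ s = T.neg (T.smp i) := rw'_rev' g hL₀ (neg_lt (g.smp_lt hi))
  have hsN : T.N ≤ s := by
    by_contra hlt
    have h1 := h₀ _ ((N_le_neg_iff hsn).2 (not_le.1 hlt)) (neg_lt hsn)
    rw [rw'_neg g hL₀ hsn, e, Tab.neg_neg (g.smp_lt hi)] at h1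
    exact absurd (g.smp_ge hi) (not_le.2 h1)
  have h2 := hall s hsN hsn
  rw [rw'_cons, e, g.ref_neg hi (g.smp_lt hi), g.ref_smp hi, Tab.neg_neg (g.smp_lt hi)] at h2
  exact absurd (g.smp_ge hi) (not_le.2 h2)

/-- Conjugation by the longest element maps a maximal subgroup of `U` to one of `U⁻`. -/
theorem opp_map (g : T.Good) {L₀ : List ℕ} (hL₀ : T.Wd L₀)
    (h₀ : ∀ s, T.N ≤ s → s < T.n → T.rw' L₀ s < T.N) {i j : ℕ} (hi : i < T.l) (hj : j < T.l)
    (e : T.rw' L₀ (T.smp j) = T.neg (T.smp i)) :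
    (genS g F (T.posExc j)).map (MulAut.conj (nWd g F L₀)).toMonoidHom =
      genS g F {r | r < T.N ∧ r ≠ T.neg (T.smp i)} := by
  rw [genS_map_nWd g hL₀ fun r hr => hr.2.1]
  congr 1
  ext x
  constructor
  · rintro ⟨r, ⟨h1, h2, h3⟩, rfl⟩
    refine ⟨h₀ r h1 h2, fun e' => h3 ?_⟩
    rw [← rw'_rev g hL₀ h2, e', ← e, rw'_rev g hL₀ (g.smp_lt hj)]
  · rintro ⟨hxN, hne⟩
    have hxn : x < T.n := by have := n_def (T := T); omega
    refine ⟨T.rw' L₀.reverse x, ⟨?_, rw'_lt g hL₀.reverse hxn, fun e' => hne ?_⟩,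
      rw'_rev' g hL₀ hxn⟩
    · by_contra hlt
      have hl := rw'_lt g hL₀.reverse hxn
      have h1 := h₀ _ ((N_le_neg_iff hl).2 (not_le.1 hlt)) (neg_lt hl)
      rw [rw'_neg g hL₀ hl, rw'_rev' g hL₀ hxn, neg_lt_N_iff hxn] at h1
      omega
    · rw [← rw'_rev' g hL₀ hxn, e', e]

theorem gD_normalized (g : T.GoodA) {i : ℕ} (hi : i < T.l) :
    (∀ t : F, ∀ e ∈ gD g.toGood F i, eX g.toGood F i t * e * (eX g.toGood F i t)⁻¹ ∈ gD g.toGood F i) ∧
    (∀ t : F, ∀ e ∈ gD g.toGood F i, eY g.toGood F i t * e * (eY g.toGood F i t)⁻¹ ∈ gD g.toGood F i) ∧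
    (∀ e ∈ gD g.toGood F i, eN g.toGood F i * e * (eN g.toGood F i)⁻¹ ∈ gD g.toGood F i) ∧
    (∀ u ∈ gV g.toGood F, ∃ e ∈ gD g.toGood F i, ∃ t : F, u = e * eY g.toGood F i t) := by
  have hg := g.toGood
  obtain ⟨L₀, hL₀, h₀, -⟩ := exists_longest hg
  obtain ⟨j, hj, e⟩ := exists_opp hg hL₀ h₀ hi
  have hmap := opp_map (F := F) hg hL₀ h₀ hi hj e
  obtain ⟨ε, hε, hconj⟩ := nWd_conj (F := F) hg hL₀ (hg.smp_lt hj)
  have hε' : (ε : F) * ε = 1 := by rw [← Units.val_mul, hε, Units.val_one]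
  set w := nWd hg F L₀
  let A := genS hg F {r | r < T.N ∧ r ≠ T.neg (T.smp i)}
  have hnorm : ∀ x : GL T.D.Idx F, x ∈ Subgroup.normalizer (genS hg F (T.posExc j) : Set (GL T.D.Idx F)) →
      w * x * w⁻¹ ∈ Subgroup.normalizer (A : Set (GL T.D.Idx F)) := by
    intro x hx
    rw [Subgroup.mem_normalizer_iff] at hx ⊢
    intro y
    simp only [A, ← hmap]
    rw [Subgroup.mem_map_equiv, Subgroup.mem_map_equiv, MulAut.conj_symm_apply,
      MulAut.conj_symm_apply, hx]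
    constructor <;> intro h <;> convert h using 1 <;> group
  have hY : ∀ t : F, xg hg (T.neg (T.smp i)) t ∈ Subgroup.normalizer (A : Set (GL T.D.Idx F)) := by
    intro t
    have h := hnorm _ (posExc_normalized g hj (hg.smp_ge hj) (hg.smp_lt hj) ((ε : F) * t))
    rwa [(hconj _).1, e, ← mul_assoc, hε', one_mul] at h
  have hX : ∀ t : F, xg hg (T.smp i) t ∈ Subgroup.normalizer (A : Set (GL T.D.Idx F)) := by
    intro t
    have h := hnorm _ (posExc_normalized_neg g hj ((ε : F) * t))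
    rwa [(hconj _).2, e, Tab.neg_neg (hg.smp_lt hi), ← mul_assoc, hε', one_mul] at h
  refine ⟨fun t y hy => subgroupOf_normalizer A (eX hg F i t) (hX t) hy,
    fun t y hy => subgroupOf_normalizer A (eY hg F i t) (hY t) hy,
    fun y hy => subgroupOf_normalizer A (eN hg F i) ?_ hy, fun u hu => ?_⟩
  · show nG hg F i ∈ _
    rw [show nG hg F i = xg hg (T.smp i) 1 * xg hg (T.neg (T.smp i)) (-1) * xg hg (T.smp i) 1 from rfl]
    exact mul_mem (mul_mem (hX _) (hY _)) (hX _)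
  · have hle : genS hg F (Set.Iio T.N) ≤
        (genS hg F (Set.Ico T.N T.n)).map (MulAut.conj w).toMonoidHom := by
      rw [genS_map_nWd hg hL₀ fun r hr => hr.2]
      refine genS_mono hg fun r hr => ?_
      have hrn : r < T.n := by have := n_def (T := T); have : r < T.N := hr; omega
      refine ⟨T.rw' L₀.reverse r, ⟨?_, rw'_lt hg hL₀.reverse hrn⟩, rw'_rev' hg hL₀ hrn⟩
      by_contra hlt
      have hl := rw'_lt hg hL₀.reverse hrn
      have h1 := h₀ _ ((N_le_neg_iff hl).2 (not_le.1 hlt)) (neg_lt hl)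
      rw [rw'_neg hg hL₀ hl, rw'_rev' hg hL₀ hrn, neg_lt_N_iff hrn] at h1
      have : r < T.N := hr
      omega
    obtain ⟨v, hv, hvu⟩ := hle (show (u : GL T.D.Idx F) ∈ genS hg F (Set.Iio T.N) from hu)
    change w * v * w⁻¹ = (u : GL T.D.Idx F) at hvu
    obtain ⟨a, ha, t, ht⟩ := pos_split g hj hv
    have ha' : w * a * w⁻¹ ∈ A := by
      simp only [A, ← hmap]
      exact ⟨a, ha, rfl⟩
    refine ⟨⟨w * a * w⁻¹, genS_le hg (fun r _ s => xg_mem_group hg r s) ha'⟩, ha', (ε : F) * t,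
      Subtype.ext ?_⟩
    show (u : GL T.D.Idx F) = w * a * w⁻¹ * xg hg (T.neg (T.smp i)) ((ε : F) * t)
    rw [← e, ← (hconj t).1, show (u : GL T.D.Idx F) = w * (a * xg hg (T.smp j) t) * w⁻¹ by
      rw [← ht, hvu]]
    group

end Cfsg.Agent.Richen
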