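import Cfsg.Agent.Lib.Richen.Modular

/-!
# Brauer's count of the simple modules in characteristic `p`
-/

set_option autoImplicit false
set_option linter.style.haveILetI false

namespace Cfsg.Agent.Richen

universe v

variable {k : Type v} [Field k] {G : Type v} [Group G]

/-- a representation transported to the standard coordinate space -/
noncomputable def toStd {V : Type v} [AddCommGroup V] [Module k V] [FiniteDimensional k V]
    (ρ : Representation k G V) : Representation k G (Fin (Module.finrank k V) → k) :=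
  ((Module.finBasis k V).equivFun.conjRingEquiv : Module.End k V ≃+* _).toMonoidHom.comp ρ

theorem toStd_apply {V : Type v} [AddCommGroup V] [Module k V] [FiniteDimensional k V]
    (ρ : Representation k G V) (g : G) (v : V) :
    toStd ρ g ((Module.finBasis k V).equivFun v) = (Module.finBasis k V).equivFun (ρ g v) := by
  show (Module.finBasis k V).equivFun (ρ g ((Module.finBasis k V).equivFun.symm _)) = _
  rw [LinearEquiv.symm_apply_apply]

theorem toStd_character {V : Type v} [AddCommGroup V] [Module k V] [FiniteDimensional k V]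
    (ρ : Representation k G V) : (toStd ρ).character = ρ.character := by
  funext g
  exact LinearMap.trace_conj' (ρ g) (Module.finBasis k V).equivFun

theorem toStd_simp {V : Type v} [AddCommGroup V] [Module k V] [FiniteDimensional k V]
    {ρ : Representation k G V} (h : IsSimp ρ) : IsSimp (toStd ρ) := by
  haveI := h.1
  set e := (Module.finBasis k V).equivFun
  refine ⟨e.toEquiv.symm.nontrivial, fun W hW => ?_⟩
  rcases h.2 (W.comap (e : V →ₗ[k] _)) (fun g v hv => by
    have := hW g _ hv
    rwa [LinearEquiv.coe_coe, toStd_apply] at this) with h' | h'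
  · left
    rw [← Submodule.map_comap_eq_of_surjective (f := (e : V →ₗ[k] _)) e.surjective W, h',
      Submodule.map_bot]
  · right
    rw [← Submodule.map_comap_eq_of_surjective (f := (e : V →ₗ[k] _)) e.surjective W, h',
      Submodule.map_top, LinearEquiv.range]

/-- Characters lie in the span of the characters of simple representations. -/
theorem character_mem_span [Finite G] (C : Submodule k (G → k))
    (hC : ∀ (n : ℕ) (ρ : Representation k G (Fin n → k)), IsSimp ρ → ρ.character ∈ C)
    {V : Type v} [AddCommGroup V] [Module k V] [FiniteDimensional k V] (ρ : Representation k G V) :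
    ρ.character ∈ C := by
  have key : ∀ (d n : ℕ), n ≤ d → ∀ ρ : Representation k G (Fin n → k), ρ.character ∈ C := by
    intro d
    induction d using Nat.strong_induction_on with
    | _ d ih =>
    intro n hn ρ
    rcases n.eq_zero_or_pos with rfl | hpos
    · convert C.zero_mem
      funext g
      show LinearMap.trace k _ (ρ g) = 0
      rw [Subsingleton.elim (ρ g) 0, map_zero]
    by_cases h : IsSimp ρ
    · exact hC n ρ h
    haveI : Nonempty (Fin n) := ⟨⟨0, hpos⟩⟩
    simp only [IsSimp, not_and, not_forall, not_or] at h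
    obtain ⟨W, hW, h0, h1⟩ := h inferInstance
    let σ : Representation k G W :=
      { toFun := fun g => (ρ g).restrict (hW g)
        map_one' := LinearMap.ext fun w => Subtype.ext (by simp)
        map_mul' := fun a b => LinearMap.ext fun w => Subtype.ext (by simp) }
    let τ : Representation k G ((Fin n → k) ⧸ W) :=
      { toFun := fun g => W.mapQ W (ρ g) (hW g)
        map_one' := Submodule.linearMap_qext _ (LinearMap.ext fun w => by simp)
        map_mul' := fun a b => Submodule.linearMap_qext _ (LinearMap.ext fun w => by simp) }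
    have hadd : ρ.character = σ.character + τ.character := by
      funext g
      exact trace_add (ρ g) W (hW g)
    have hsum := W.finrank_quotient_add_finrank
    rw [Module.finrank_fin_fun] at hsum
    have hb : 0 < Module.finrank k W := Nat.pos_of_ne_zero (Submodule.finrank_eq_zero.not.2 h0)
    have ht : 0 < Module.finrank k ((Fin n → k) ⧸ W) := by
      have := Submodule.finrank_lt h1
      rw [Module.finrank_fin_fun] at this
      omega
    rw [hadd, ← toStd_character σ, ← toStd_character τ]
    exact C.add_mem (ih (d - 1) (by omega) _ (by omega) _) (ih (d - 1) (by omega) _ (by omega) _)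
  rw [← toStd_character ρ]
  exact key _ _ le_rfl _

section Monomial

variable (H : Subgroup G) (l : H →* k)

theorem cocycle_mem (g : G) (q : G ⧸ H) : q.out⁻¹ * g * (g⁻¹ • q).out ∈ H := by
  have h : ((q.out : G) : G ⧸ H) = ((g * (g⁻¹ • q).out : G) : G ⧸ H) := by
    rw [QuotientGroup.out_eq']
    exact ((congrArg (g • ·) (QuotientGroup.out_eq' (g⁻¹ • q))).trans (smul_inv_smul g q)).symm
  have := QuotientGroup.eq.1 h
  rwa [← mul_assoc] at this

/-- the monomial representation -/
noncomputable def monomialRep : Representation k G (G ⧸ H → k) where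
  toFun g :=
    { toFun := fun f q => l ⟨_, cocycle_mem H g q⟩ * f (g⁻¹ • q)
      map_add' := fun f f' => funext fun q => mul_add _ _ _
      map_smul' := fun c f => funext fun q => mul_left_comm _ _ _ }
  map_one' := LinearMap.ext fun f => funext fun q => by
    show l (⟨_, cocycle_mem H 1 q⟩ : H) * f ((1 : G)⁻¹ • q) = f q
    have hz : (⟨_, cocycle_mem H 1 q⟩ : H) = 1 := Subtype.ext (by simp)
    rw [hz, map_one, one_mul, inv_one, one_smul]
  map_mul' a b := LinearMap.ext fun f => funext fun q => by
    show l (⟨_, cocycle_mem H (a * b) q⟩ : H) * f ((a * b)⁻¹ • q) =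
      l (⟨_, cocycle_mem H a q⟩ : H) * (l (⟨_, cocycle_mem H b (a⁻¹ • q)⟩ : H) * f (b⁻¹ • a⁻¹ • q))
    have hz : (⟨_, cocycle_mem H (a * b) q⟩ : H) =
        ⟨_, cocycle_mem H a q⟩ * ⟨_, cocycle_mem H b (a⁻¹ • q)⟩ :=
      Subtype.ext (by simp [mul_assoc, mul_smul])
    rw [hz, map_mul, mul_assoc, mul_inv_rev, mul_smul]

open Classical in
theorem monomialRep_character [Finite G] [Fintype (G ⧸ H)] (g : G) :
    (monomialRep H l).character g = ∑ q : G ⧸ H,
      if g⁻¹ • q = q then l ⟨_, cocycle_mem H g q⟩ else 0 := by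
  show LinearMap.trace k _ (monomialRep H l g) = _
  rw [LinearMap.trace_eq_matrix_trace k (Pi.basisFun k (G ⧸ H)), Matrix.trace]
  refine Finset.sum_congr rfl fun q _ => ?_
  rw [Matrix.diag_apply, LinearMap.toMatrix_apply, Pi.basisFun_apply, Pi.basisFun_repr]
  show l _ * (Pi.single q 1 : G ⧸ H → k) (g⁻¹ • q) = _
  rw [Pi.single_apply]
  split_ifs <;> simp

end Monomial

variable [Finite G] (p : ℕ) [Fact p.Prime] [CharP k p]

theorem not_dvd_imp_natCast_ne {m : ℕ} (h : ¬ p ∣ m) : (m : k) ≠ 0 := fun e =>
  h ((CharP.cast_eq_zero_iff k p m).1 e)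

/-- Some combination of monomial characters is supported on the class of a regular element. -/
theorem exists_separating [IsAlgClosed k] {s : G} (hs : (orderOf s).Coprime p)
    (C : Submodule k (G → k)) (hC : ∀ (V : Type v) [AddCommGroup V] [Module k V]
      [FiniteDimensional k V] (ρ : Representation k G V), ρ.character ∈ C) :
    ∃ f ∈ C, f s ≠ 0 ∧ ∀ g : G, (orderOf g).Coprime p → ¬ IsConj g s → f g = 0 := by
  classical
  haveI := Fintype.ofFinite G
  set A := Subgroup.zpowers s with hA
  set Z := Subgroup.centralizer ({s} : Set G) with hZ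
  obtain ⟨Q₀⟩ : Nonempty (Sylow p Z) := inferInstance
  set Q := (Q₀ : Subgroup Z).map Z.subtype with hQ
  have hcomm : ∀ y ∈ Q, Commute s y := fun y hy => by
    obtain ⟨y, -, rfl⟩ := hy
    exact (Subgroup.mem_centralizer_singleton_iff.1 y.2).symm
  have hQp : IsPGroup p Q := Q₀.isPGroup'.map _
  -- the subgroup `⟨s⟩ × Q`
  let H : Subgroup G :=
    { carrier := {h | ∃ a ∈ A, ∃ y ∈ Q, h = a * y}
      one_mem' := ⟨1, one_mem _, 1, one_mem _, by simp⟩
      mul_mem' := by
        rintro _ _ ⟨a, ha, y, hy, rfl⟩ ⟨a', ha', y', hy', rfl⟩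
        refine ⟨a * a', mul_mem ha ha', y * y', mul_mem hy hy', ?_⟩
        obtain ⟨z, rfl⟩ := ha'
        simp only [mul_assoc]
        rw [← mul_assoc y, ((hcomm y hy).zpow_left z).symm.eq, mul_assoc]
      inv_mem' := by
        rintro _ ⟨a, ha, y, hy, rfl⟩
        refine ⟨a⁻¹, inv_mem ha, y⁻¹, inv_mem hy, ?_⟩
        obtain ⟨z, rfl⟩ := ha
        rw [mul_inv_rev]
        exact (((hcomm y hy).zpow_left z).inv_left.inv_right).eq.symm }
  obtain ⟨e, he1, he0⟩ := Nat.chineseRemainder
    (Nat.Coprime.pow_right ((Nat.card G).factorization p) hs) 1 0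
  have hQe : ∀ y ∈ Q, y ^ e = 1 := by
    intro y hy
    obtain ⟨j, hj⟩ := (IsPGroup.iff_orderOf.1 hQp) ⟨y, hy⟩
    rw [Subgroup.orderOf_mk] at hj
    refine orderOf_dvd_iff_pow_eq_one.1 (dvd_trans ?_ (Nat.modEq_zero_iff_dvd.1 he0))
    rw [hj]
    exact pow_dvd_pow p (((Fact.out : p.Prime).pow_dvd_iff_le_factorization Nat.card_pos.ne').1
      (hj ▸ orderOf_dvd_natCard y))
  have hAe : ∀ a ∈ A, a ^ e = a := by
    rintro _ ⟨z, rfl⟩
    show (s ^ z) ^ e = s ^ z
    conv_rhs => rw [← pow_one (s ^ z)]
    rw [pow_eq_pow_iff_modEq]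
    exact he1.of_dvd (orderOf_dvd_of_mem_zpowers (Subgroup.mem_zpowers_iff.2 ⟨z, rfl⟩))
  have hproj : ∀ h : H, (h : G) ^ e ∈ A := by
    rintro ⟨_, a, ha, y, hy, rfl⟩
    obtain ⟨z, rfl⟩ := ha
    rw [((hcomm y hy).zpow_left z).mul_pow, hQe y hy, mul_one]
    exact pow_mem (Subgroup.zpow_mem _ (Subgroup.mem_zpowers s) z) e
  let π : H →* A :=
    { toFun := fun h => ⟨(h : G) ^ e, hproj h⟩
      map_one' := Subtype.ext (one_pow e)
      map_mul' := by
        rintro ⟨_, a, ha, y, hy, rfl⟩ ⟨_, a', ha', y', hy', rfl⟩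
        refine Subtype.ext ?_
        show ((a * y) * (a' * y')) ^ e = (a * y) ^ e * (a' * y') ^ e
        obtain ⟨z, rfl⟩ := ha
        obtain ⟨z', rfl⟩ := ha'
        have c1 := (hcomm y hy).zpow_left z
        have c2 := (hcomm y' hy').zpow_left z'
        have c3 := (hcomm y hy).zpow_left z'
        have c4 : Commute (s ^ z * s ^ z') (y * y') := by
          rw [← zpow_add]; exact ((hcomm _ (mul_mem hy hy')).zpow_left _)
        rw [show s ^ z * y * (s ^ z' * y') = s ^ z * s ^ z' * (y * y') from by
            rw [mul_assoc, ← mul_assoc y, c3.symm.eq]; group,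
          c4.mul_pow, c1.mul_pow, c2.mul_pow, hQe y hy, hQe y' hy', hQe _ (mul_mem hy hy'),
          (Commute.zpow_zpow_self s z z').mul_pow]
        simp }
  -- the dual of `⟨s⟩`
  haveI : NeZero (Nat.card A : k) := ⟨not_dvd_imp_natCast_ne p (by
    rw [hA, Nat.card_zpowers]
    exact (Fact.out : p.Prime).coprime_iff_not_dvd.1 hs.symm)⟩
  haveI : NeZero (Monoid.exponent A : k) := ⟨fun h0 => NeZero.ne (Nat.card A : k) (by
    obtain ⟨c, hc⟩ := Group.exponent_dvd_nat_card (G := A)
    rw [hc, Nat.cast_mul, h0, zero_mul])⟩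
  letI : CommGroup A := IsCyclic.commGroup
  haveI : HasEnoughRootsOfUnity k (Monoid.exponent A) := inferInstance
  haveI : Fintype (A →* kˣ) := Fintype.ofFinite _
  let w : A := ⟨s, Subgroup.mem_zpowers s⟩
  have hdelta : ∀ a : A, ∑ l : A →* kˣ, ((l (w⁻¹ * a) : kˣ) : k) =
      if a = w then (Nat.card A : k) else 0 := by
    intro a
    split_ifs with h
    · rw [h, inv_mul_cancel]
      simp only [map_one, Units.val_one, Finset.sum_const, Finset.card_univ, nsmul_one]
      rw [← Nat.card_eq_fintype_card, CommGroup.card_monoidHom_of_hasEnoughRootsOfUnity A k]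
    · have hne : w⁻¹ * a ≠ 1 := fun e' => h (inv_mul_eq_one.1 e').symm
      obtain ⟨l₀, hl₀⟩ := CommGroup.exists_apply_ne_one_of_hasEnoughRootsOfUnity A k hne
      have hsum : ∑ l : A →* kˣ, ((l (w⁻¹ * a) : kˣ) : k) =
          ((l₀ (w⁻¹ * a) : kˣ) : k) * ∑ l : A →* kˣ, ((l (w⁻¹ * a) : kˣ) : k) := by
        rw [Finset.mul_sum]
        exact (Fintype.sum_equiv (Equiv.mulLeft l₀) _ _ fun l => by simp).symm
      refine eq_zero_of_mul_eq_self_left ?_ hsum.symm
      exact fun e' => hl₀ (Units.ext e')
  let μ : (A →* kˣ) → (H →* k) := fun l => (Units.coeHom k).comp (l.comp π)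
  let f : G → k := ∑ l : A →* kˣ, ((l w⁻¹ : kˣ) : k) • (monomialRep H (μ l)).character
  refine ⟨f, Submodule.sum_mem _ fun l _ => C.smul_mem _ (hC _ _), ?_⟩
  let F : G → Finset (G ⧸ H) := fun g => Finset.univ.filter fun q => q.out⁻¹ * g * q.out = s
  have hval : ∀ g : G, (orderOf g).Coprime p → f g = (Nat.card A : k) * ((F g).card : k) := by
    intro g hg
    simp only [f, Finset.sum_apply, Pi.smul_apply, monomialRep_character, smul_eq_mul, Finset.mul_sum]
    rw [Finset.sum_comm, Finset.card_filter, Nat.cast_sum, Finset.mul_sum]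
    refine Finset.sum_congr rfl fun q _ => ?_
    by_cases hq : g⁻¹ • q = q
    · simp only [if_pos hq]
      have hout : q.out⁻¹ * g * (g⁻¹ • q).out = q.out⁻¹ * g * q.out := by rw [hq]
      set h : H := ⟨_, cocycle_mem H g q⟩ with hh
      have hreg : (π h : G) = q.out⁻¹ * g * q.out := by
        show (q.out⁻¹ * g * (g⁻¹ • q).out) ^ e = _
        rw [hout]
        obtain ⟨a, ha, y, hy, hay⟩ := (show q.out⁻¹ * g * q.out ∈ H from hout ▸ h.2)
        obtain ⟨z, rfl⟩ := ha
        have ho : orderOf (s ^ z * y) = orderOf g := by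
          rw [← hay, ← MulAut.conj_inv_apply, MulEquiv.orderOf_eq]
        have hy1 : y = 1 := by
          have c1 := (hcomm y hy).zpow_left z
          obtain ⟨j, hj⟩ := (IsPGroup.iff_orderOf.1 hQp) ⟨y, hy⟩
          rw [Subgroup.orderOf_mk] at hj
          have hd : orderOf y ∣ orderOf (s ^ z * y) := by
            rw [c1.orderOf_mul_eq_mul_orderOf_of_coprime]
            · exact dvd_mul_left _ _
            · rw [hj]
              exact Nat.Coprime.pow_right j (hs.coprime_dvd_left
                (orderOf_dvd_of_mem_zpowers ⟨z, rfl⟩))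
          rw [ho, hj] at hd
          have h1 : p ^ j ∣ 1 := (Nat.Coprime.pow_right j hg) ▸ Nat.dvd_gcd hd dvd_rfl
          exact orderOf_eq_one_iff.1 (hj.trans (Nat.dvd_one.1 h1))
        rw [hay, hy1, mul_one]
        exact hAe _ ⟨z, rfl⟩
      have hiff : π h = w ↔ q.out⁻¹ * g * q.out = s := by
        rw [← Subtype.coe_inj, hreg]
      calc ∑ l : A →* kˣ, ((l w⁻¹ : kˣ) : k) * μ l h = ∑ l : A →* kˣ, ((l (w⁻¹ * π h) : kˣ) : k) :=
            Finset.sum_congr rfl fun l _ => by simp [μ]
        _ = _ := by rw [hdelta]; simp [hiff]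
    · simp only [if_neg hq, mul_zero, Finset.sum_const_zero]
      rw [if_neg]
      · simp
      intro hqs
      refine hq ?_
      rw [inv_smul_eq_iff]
      conv_lhs => rw [← QuotientGroup.out_eq' q]
      conv_rhs => rw [← QuotientGroup.out_eq' q]
      rw [MulAction.Quotient.smul_coe, smul_eq_mul, QuotientGroup.eq, ← mul_assoc, hqs]
      exact ⟨s, Subgroup.mem_zpowers s, 1, one_mem _, by simp⟩
  have hHZ : H ≤ Z := by
    rintro _ ⟨a, ⟨z, rfl⟩, y, hy, rfl⟩
    exact Subgroup.mem_centralizer_singleton_iff.2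
      (((Commute.refl s).zpow_left z).mul_left (hcomm y hy).symm).eq
  constructor
  · rw [hval s hs]
    refine mul_ne_zero (NeZero.ne _) (not_dvd_imp_natCast_ne p ?_)
    have hset : F s = Finset.univ.filter fun q : G ⧸ H => q.out ∈ Z :=
      Finset.filter_congr fun q _ => by
        rw [Subgroup.mem_centralizer_singleton_iff, mul_assoc, inv_mul_eq_iff_eq_mul]
        exact eq_comm
    have hcard : (F s).card = (H.subgroupOf Z).index := by
      rw [hset, Subgroup.index, ← Nat.card_eq_finsetCard]
      refine (Nat.card_congr (Equiv.ofBijective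
        (fun q : Z ⧸ H.subgroupOf Z => (⟨Quotient.map' (fun z : Z => (z : G)) ?_ q, ?_⟩ :
          {q : G ⧸ H // q ∈ Finset.univ.filter fun q : G ⧸ H => q.out ∈ Z})) ⟨?_, ?_⟩)).symm
      · intro a b hab
        rw [QuotientGroup.leftRel_apply] at hab ⊢
        exact hab
      · induction q using QuotientGroup.induction_on with | H z => ?_
        rw [Finset.mem_filter]
        refine ⟨Finset.mem_univ _, ?_⟩
        obtain ⟨h, hh⟩ := QuotientGroup.mk_out_eq_mul H (z : G)
        show ((z : G) : G ⧸ H).out ∈ Z
        rw [hh]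
        exact mul_mem z.2 (hHZ h.2)
      · intro a b hab
        induction a using QuotientGroup.induction_on with | H a => ?_
        induction b using QuotientGroup.induction_on with | H b => ?_
        exact QuotientGroup.eq.2 (QuotientGroup.eq.1 (congrArg Subtype.val hab) :)
      · rintro ⟨q, hq⟩
        exact ⟨((⟨q.out, (Finset.mem_filter.1 hq).2⟩ : Z) : Z ⧸ H.subgroupOf Z),
          Subtype.ext (QuotientGroup.out_eq' q)⟩
    rw [hcard]
    have hle : (Q₀ : Subgroup Z) ≤ H.subgroupOf Z := fun y hy =>
      ⟨1, one_mem _, (y : G), ⟨y, hy, rfl⟩, by simp⟩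
    exact fun hd => Q₀.not_dvd_index (hd.trans (Subgroup.index_dvd_of_le hle))
  · intro g hg hconj
    rw [hval g hg]
    have : F g = ∅ := Finset.filter_eq_empty_iff.2 fun q _ hq =>
      hconj (isConj_iff.2 ⟨q.out⁻¹, by rw [inv_inv]; exact hq⟩)
    rw [this]
    simp

variable {p}

/-- The number of `p`-regular classes is the number of simple representations. -/
theorem card_regular_classes [IsAlgClosed k] {ι : Type} [Fintype ι] (d : ι → ℕ)
    (S : ∀ i, Representation k G (Fin (d i) → k)) (hs : ∀ i, IsSimp (S i))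
    (hne : ∀ i j, ∀ e : (Fin (d i) → k) ≃ₗ[k] (Fin (d j) → k),
      (∀ g v, e (S i g v) = S j g (e v)) → i = j)
    (hex : ∀ (n : ℕ) (ρ : Representation k G (Fin n → k)), IsSimp ρ →
      ∃ i, ρ.character = (S i).character) :
    Nat.card {c : ConjClasses G // ∃ g : G, ConjClasses.mk g = c ∧ (orderOf g).Coprime p} =
      Fintype.card ι := by
  classical
  let R := {c : ConjClasses G // ∃ g : G, ConjClasses.mk g = c ∧ (orderOf g).Coprime p}
  haveI : Finite R := Subtype.finite
  haveI := Fintype.ofFinite R
  let rp : R → G := fun c => c.2.choose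
  have hrp : ∀ c : R, ConjClasses.mk (rp c) = c.1 ∧ (orderOf (rp c)).Coprime p := fun c =>
    c.2.choose_spec
  let res : (G → k) →ₗ[k] (R → k) := LinearMap.funLeft k k rp
  let v : ι → (R → k) := fun i => res (S i).character
  have hli : LinearIndependent k v := by
    rw [Fintype.linearIndependent_iff]
    intro a ha i₀
    refine character_independent d S hs hne a (fun g => ?_) i₀
    obtain ⟨s, u, rfl, hsu, hsp, j, hu⟩ := exists_regular_part p g
    let c : R := ⟨ConjClasses.mk s, s, rfl, hsp⟩
    obtain ⟨x, hx⟩ := isConj_iff.1 (ConjClasses.mk_eq_mk_iff_isConj.1 (hrp c).1).symm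
    have h := congrFun ha c
    simp only [Finset.sum_apply, Pi.smul_apply, smul_eq_mul, v, res, LinearMap.funLeft_apply,
      Pi.zero_apply] at h
    simp only [character_mul_unipotent p (S _) hsu hu]
    simpa only [← hx, Representation.char_conj] using h
  have hspan : Submodule.span k (Set.range v) = ⊤ := by
    have hC : ∀ (V : Type v) [AddCommGroup V] [Module k V] [FiniteDimensional k V]
        (ρ : Representation k G V),
        ρ.character ∈ Submodule.span k (Set.range fun i => (S i).character) := by
      intro V _ _ _ ρ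
      refine character_mem_span _ (fun n σ hσ => ?_) ρ
      obtain ⟨i, hi⟩ := hex n σ hσ
      exact hi ▸ Submodule.subset_span ⟨i, rfl⟩
    rw [eq_top_iff, ← (Pi.basisFun k R).span_eq, Submodule.span_le]
    rintro _ ⟨c, rfl⟩
    obtain ⟨f, hf, hfs, hf0⟩ := exists_separating p (hrp c).2 _ hC
    have e : Submodule.span k (Set.range v) =
        (Submodule.span k (Set.range fun i => (S i).character)).map res := by
      rw [Submodule.map_span, ← Set.range_comp]
      rfl
    have hmem : res f ∈ Submodule.span k (Set.range v) := e ▸ Submodule.mem_map_of_mem hf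
    have hsingle : res f = f (rp c) • (Pi.basisFun k R c) := by
      funext c'
      rw [Pi.smul_apply, Pi.basisFun_apply, smul_eq_mul]
      rcases eq_or_ne c' c with rfl | hne'
      · simp [res]
      · rw [Pi.single_eq_of_ne hne', mul_zero]
        refine hf0 _ (hrp c').2 fun hc => hne' (Subtype.ext ?_)
        rw [← (hrp c').1, ← (hrp c).1]
        exact ConjClasses.mk_eq_mk_iff_isConj.2 hc
    rw [SetLike.mem_coe, ← inv_smul_smul₀ hfs (Pi.basisFun k R c), ← hsingle]
    exact Submodule.smul_mem _ _ hmem
  have := Module.finrank_eq_card_basis (Module.Basis.mk hli hspan.ge)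
  rw [Module.finrank_fintype_fun_eq_card] at this
  rw [Nat.card_eq_fintype_card]
  exact this

end Cfsg.Agent.Richen
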