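import Cfsg.Agent.Lib.Richen.ChevElts
import Cfsg.Agent.Lib.Richen.Count
import Cfsg.Agent.Lib.Lie.ChevBruhat

/-!
# Weights of the simple modules of a Chevalley group in its own characteristic

A simple module has exactly one line fixed by `U`; the torus and the operators
`Σ_t x_i(t) n_i` act on it by scalars, and these scalars determine the module.
-/

set_option autoImplicit false
set_option linter.style.haveILetI false
set_option linter.unusedSectionVars false

open scoped Classical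

namespace Cfsg.Agent.Richen

open Cfsg.Lie Cfsg.Agent.Chev Cfsg.Agent.Chev.Tab

universe v

variable {T : Tab} {F : Type v} [Field F] [Fintype F]
variable {k : Type v} [Field k]

theorem gV_isPGroup (g : T.Good) (p : ℕ) [Fact p.Prime] [CharP F p] : IsPGroup p (gV g F) := by
  obtain ⟨n, -, hn⟩ := exists_pos_to_neg (F := F) g
  rw [posUnipotent_eq g, negUnipotent_eq g] at hn
  exact (hn ▸ (posU_isPGroup (F := F) g p).map _).comap_subtype

theorem gU_isPGroup (g : T.Good) (p : ℕ) [Fact p.Prime] [CharP F p] : IsPGroup p (gU g F) :=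
  (posU_isPGroup (F := F) g p).comap_subtype

/-- `U n U ∩ N = {n}` -/
theorem monomial_unique (g : T.GoodA) (p : ℕ) [Fact p.Prime] [CharP F p] {x y : ↥(T.D.group F)}
    (hx : (x : GL T.D.Idx F) ∈ T.D.monomialSubgroup F)
    (hy : (y : GL T.D.Idx F) ∈ T.D.monomialSubgroup F) {u u' : ↥(T.D.group F)}
    (hu : u ∈ gU g.toGood F) (hu' : u' ∈ gU g.toGood F) (h : u * x * u' = y) : x = y := by
  have hg := g.toGood
  let P := bnPair g F
  have hUB : ∀ w ∈ gU hg F, (w : GL T.D.Idx F) ∈ T.D.borelSubgroup F := fun w hw =>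
    genS_pos_le_borel hg (fun r hr => hr) hw
  have hxN : x ∈ P.N := hx
  have hyN : y ∈ P.N := hy
  have h1 : y ∈ BN.cell P (BN.wmk P x hxN) := by
    rw [BN.cell_mk, DoubleCoset.mem_doubleCoset]
    exact ⟨u, hUB u hu, u', hUB u' hu', h.symm⟩
  have h2 : y ∈ BN.cell P (BN.wmk P y hyN) := by
    rw [BN.cell_mk, DoubleCoset.mem_doubleCoset]
    exact ⟨1, one_mem _, 1, one_mem _, by simp⟩
  have hτ := (BN.wmk_eq_iff P hxN hyN).1 (BN.eq_of_mem_cell P h1 h2)
  have hτ' : ((x⁻¹ * y : ↥(T.D.group F)) : GL T.D.Idx F) ∈ T.D.diagonalSubgroup F :=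
    borel_inf_monomial hg hτ (mul_mem (inv_mem hx) hy)
  obtain ⟨c, hc⟩ := (diagonalSubgroup_eq (F := F) hg) ▸ hτ'
  set z := x⁻¹ * u * x with hz
  have hze : z = x⁻¹ * y * u'⁻¹ := by rw [hz, ← h]; group
  have hzB : (z : GL T.D.Idx F) ∈ T.D.borelSubgroup F := by
    rw [hze, Subgroup.coe_mul, ← hc, Subgroup.coe_inv]
    exact mul_mem (torus_le_borel hg c) (inv_mem (hUB u' hu'))
  obtain ⟨m, hm⟩ := gU_isPGroup (F := F) hg p ⟨u, hu⟩
  have hzp : (z : GL T.D.Idx F) ^ p ^ m = 1 := by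
    rw [← SubmonoidClass.coe_pow, hz, show x⁻¹ * u * x = MulAut.conj x⁻¹ u by simp, ← map_pow,
      show u ^ p ^ m = 1 from congrArg Subtype.val hm, map_one, OneMemClass.coe_one]
  have hzU : z ∈ gU hg F := mem_posU_of_borel hg p hzB hzp
  have hτU : x⁻¹ * y ∈ gU hg F := by
    rw [show x⁻¹ * y = z * u' by rw [hze]; group]
    exact mul_mem hzU hu'
  exact inv_mul_eq_one.1 (Subtype.ext (pos_inf_torus hg hτU hτ'))

theorem eW_mem_monomial (g : T.Good) {L : List ℕ} (hL : T.Wd L) (c : ℕ → Fˣ) :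
    ((eT g F c * eW g F L : ↥(T.D.group F)) : GL T.D.Idx F) ∈ T.D.monomialSubgroup F := by
  rw [Subgroup.coe_mul, eT_coe, eW_coe]
  exact (mem_monomial_iff g).2 ⟨L, hL, c, rfl⟩

theorem eX_conj_mem (g : T.Good) {L : List ℕ} (hL : T.Wd L) (c : ℕ → Fˣ) {i : ℕ} (hi : i < T.l)
    (h : T.N ≤ T.rw' L.reverse (T.smp i)) (t : F) :
    (eT g F c * eW g F L)⁻¹ * eX g F i t * (eT g F c * eW g F L) ∈ gU g F := by
  obtain ⟨v, hv⟩ := mono_conj g hL c (rw'_lt g hL.reverse (g.smp_lt hi))
  rw [rw'_rev' g hL (g.smp_lt hi)] at hv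
  show (_ : GL T.D.Idx F) ∈ genS g F (Set.Ico T.N T.n)
  simp only [Subgroup.coe_subtype, Subgroup.coe_mul, Subgroup.coe_inv, eT_coe, eW_coe, eX_coe]
  rw [show xg g (T.smp i) t = xg g (T.smp i) ((v : F) * (((v⁻¹ : Fˣ) : F) * t)) by
    rw [Units.mul_inv_cancel_left], ← hv]
  group
  exact xg_mem_genS g (S := Set.Ico T.N T.n) ⟨h, rw'_lt g hL.reverse (g.smp_lt hi)⟩ _

variable {V : Type v} [AddCommGroup V] [Module k V]
variable (g : T.GoodA) (ρ : Representation k ↥(T.D.group F) V)

/-- the vectors fixed by `U` -/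
def fixU : Submodule k V where
  carrier := {w | ∀ u ∈ gU g.toGood F, ρ u w = w}
  add_mem' := fun ha hb u hu => by rw [map_add, ha u hu, hb u hu]
  zero_mem' := fun u _ => map_zero _
  smul_mem' := fun c _ ha u hu => by rw [map_smul, ha u hu]

theorem mem_fixU {w : V} : w ∈ fixU g ρ ↔ ∀ u ∈ gU g.toGood F, ρ u w = w := Iff.rfl

/-- the operator of a fundamental reflection -/
noncomputable def top (i : ℕ) : V →ₗ[k] V :=
  ∑ a : F, ρ (eX g.toGood F i a * eN g.toGood F i)

theorem top_apply (i : ℕ) (w : V) :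
    top g ρ i w = ∑ a : F, ρ (eX g.toGood F i a * eN g.toGood F i) w := by
  simp [top]

theorem top_mem_fixU {i : ℕ} (hi : i < T.l) {w : V} (hw : w ∈ fixU g ρ) :
    top g ρ i w ∈ fixU g ρ := by
  intro u hu
  obtain ⟨e, he, t, rfl⟩ := gU_split g hi hu
  rw [top_apply, map_sum]
  refine Fintype.sum_equiv (Equiv.addLeft t) _ _ fun a => ?_
  simp only [Equiv.coe_addLeft]
  set x := eX g.toGood F i (t + a)
  set n := eN g.toGood F i
  have h1 : x⁻¹ * e * x ∈ gE g.toGood F i := by
    have := eX_gE g hi (-(t + a)) he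
    rwa [← eX_inv, inv_inv] at this
  have h2 : n⁻¹ * (x⁻¹ * e * x) * n ∈ gU g.toGood F := by
    have h3 : eH g.toGood F i (-1) * (n * (x⁻¹ * e * x) * n⁻¹) * (eH g.toGood F i (-1))⁻¹ ∈
        gU g.toGood F := eT_gU g.toGood _ (gE_le g.toGood i (eN_gE g hi h1))
    convert h3 using 1
    rw [show eH g.toGood F i (-1) = n⁻¹ * n⁻¹ from
      eq_mul_inv_of_mul_eq (eN_inv g.toGood hi).symm]
    group
  rw [← Module.End.mul_apply, ← map_mul, show e * eX g.toGood F i t * (eX g.toGood F i a * n) =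
    x * n * (n⁻¹ * (x⁻¹ * e * x) * n) by rw [show x = _ from (eX_add g.toGood i t a).symm]; group,
    map_mul, Module.End.mul_apply, hw _ h2]

/-- torus eigenvectors -/
def TEig (x : V) : Prop := ∀ c : ℕ → Fˣ, ρ (eT g.toGood F c) x ∈ Submodule.span k {x}

theorem top_tEig {i : ℕ} (hi : i < T.l) {w : V} (hw : TEig g ρ w) : TEig g ρ (top g ρ i w) := by
  intro c
  obtain ⟨α, hα⟩ := eT_conj (F := F) g.toGood c hi
  obtain ⟨d, hd⟩ := eT_pass (F := F) g.toGood c hi
  obtain ⟨s, hs⟩ := Submodule.mem_span_singleton.1 (hw d)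
  refine Submodule.mem_span_singleton.2 ⟨s, ?_⟩
  rw [top_apply, map_sum, Finset.smul_sum]
  symm
  refine Fintype.sum_equiv (Equiv.mulLeft₀ (α : F) α.ne_zero) _ _ fun a => ?_
  simp only [Equiv.mulLeft₀_apply]
  rw [← Module.End.mul_apply, ← map_mul,
    show eT g.toGood F c * (eX g.toGood F i a * eN g.toGood F i) =
      eX g.toGood F i ((α : F) * a) * eN g.toGood F i * eT g.toGood F d by
      rw [← mul_assoc, hα, mul_assoc, hd, ← mul_assoc],
    map_mul, Module.End.mul_apply, ← hs, map_smul]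

variable (p : ℕ) [Fact p.Prime] [CharP F p] [CharP k p]

include p in
theorem tEig_of_eH {w : V}
    (h : ∀ i < T.l, ∀ u : Fˣ, ρ (eH g.toGood F i u) w ∈ Submodule.span k {w}) : TEig g ρ w := by
  intro c
  let M : Submonoid ↥(T.D.group F) :=
    { carrier := {x | ρ x w ∈ Submodule.span k {w}}
      one_mem' := by simp
      mul_mem' := fun {a b} ha hb => by
        obtain ⟨s, hs⟩ := Submodule.mem_span_singleton.1 hb
        show ρ (a * b) w ∈ Submodule.span k {w}
        rw [map_mul, Module.End.mul_apply, ← hs, map_smul]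
        exact Submodule.smul_mem _ _ ha }
  have e : eT g.toGood F c = ((List.range T.l).map fun i => eH g.toGood F i (c i)).prod := by
    refine Subtype.ext ?_
    rw [eT_coe, SubmonoidClass.coe_list_prod, List.map_map, tor_eq_prod g.toGood]
    rfl
  show eT g.toGood F c ∈ M
  rw [e]
  exact M.list_prod_mem fun y hy => by
    obtain ⟨i, hi, rfl⟩ := List.mem_map.1 hy
    exact h i (List.mem_range.1 hi) _

/-- An eigenvector of `U`, the torus and the fundamental operators. -/
structure Eig (w : V) (χ : ℕ → Fˣ →* k) (ε : ℕ → k) : Prop where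
  ne : w ≠ 0
  fix : w ∈ fixU g ρ
  tor : ∀ i < T.l, ∀ u : Fˣ, ρ (eH g.toGood F i u) w = χ i u • w
  top : ∀ i < T.l, top g ρ i w = ε i • w

include p in
/-- The square of a fundamental operator. -/
theorem top_top {i : ℕ} (hi : i < T.l) {w : V} (hw : w ∈ fixU g ρ) (χ : Fˣ →* k)
    (hχ : ∀ u : Fˣ, ρ (eH g.toGood F i u) w = χ u • w) :
    top g ρ i (top g ρ i w) = (∑ u : Fˣ, χ u) • top g ρ i w := by
  classical
  have hg := g.toGood
  have hfix : ∀ t : F, ρ (eX hg F i t) w = w := fun t => hw _ (eX_mem_gU hg hi t)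
  set R := top g ρ i w with hR
  have hsq : ρ (eN hg F i * eN hg F i) w = χ (-1) • w := by rw [eN_sq hg hi, hχ]
  rw [top_apply]
  conv_lhs =>
    arg 2; ext a
    rw [hR, top_apply, map_sum]
  rw [Finset.sum_comm, ← Finset.sum_compl_add_sum ({0} : Finset F)]
  have h0 : ∑ b ∈ ({0} : Finset F), ∑ a : F,
      ρ (eX hg F i a * eN hg F i) (ρ (eX hg F i b * eN hg F i) w) = 0 := by
    rw [Finset.sum_singleton]
    have : ∀ a : F, ρ (eX hg F i a * eN hg F i) (ρ (eX hg F i 0 * eN hg F i) w) = χ (-1) • w := by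
      intro a
      rw [eX_zero, one_mul, ← Module.End.mul_apply, ← map_mul, mul_assoc, map_mul,
        Module.End.mul_apply, hsq, map_smul, hfix]
    simp only [this, Finset.sum_const, Finset.card_univ, ← Nat.cast_smul_eq_nsmul k]
    obtain ⟨n, -, hn⟩ := FiniteField.card F p
    rw [hn, Nat.cast_pow, CharP.cast_eq_zero k p, zero_pow n.pos.ne', zero_smul]
  rw [h0, add_zero]
  have hterm : ∀ u : Fˣ, ∑ a : F,
      ρ (eX hg F i a * eN hg F i) (ρ (eX hg F i ((u⁻¹ : Fˣ) : F) * eN hg F i) w) =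
      χ (-u⁻¹) • R := by
    intro u
    rw [hR, top_apply, Finset.smul_sum]
    refine Fintype.sum_equiv (Equiv.subRight (u : F)) _ _ fun a => ?_
    simp only [Equiv.subRight_apply]
    rw [← Module.End.mul_apply, ← map_mul]
    have e : eX hg F i a * eN hg F i * (eX hg F i ((u⁻¹ : Fˣ) : F) * eN hg F i) =
        eX hg F i (a - (u : F)) * eN hg F i * eH hg F i u⁻¹ * eX hg F i (-(u : F)) *
          (eN hg F i * eN hg F i) := by
      rw [mul_assoc (eX hg F i a), ← mul_assoc (eN hg F i), eN_X hg hi,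
        Units.val_inv_eq_inv_val, eY_eq hg hi u, sub_eq_add_neg, ← eX_add,
        mul_assoc _ (eN hg F i) (eH hg F i u⁻¹), eN_H hg hi, inv_inv]
      group
    rw [e, map_mul, Module.End.mul_apply, hsq, map_smul, map_mul, Module.End.mul_apply, hfix,
      map_mul, Module.End.mul_apply, hχ, map_smul, smul_smul, ← map_mul, neg_one_mul]
  rw [Finset.sum_smul]
  refine Finset.sum_bij (fun b hb => -(Units.mk0 b (by simpa using hb))) (fun _ _ => Finset.mem_univ _)
    (fun a _ b _ h => by simpa using congrArg (fun u : Fˣ => (-(u : F))) h)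
    (fun u _ => ⟨-(u : F), by simp, Units.ext (by simp)⟩) fun b hb => ?_
  have hb0 : b ≠ 0 := by simpa using hb
  have := hterm (Units.mk0 b hb0)⁻¹
  rw [inv_inv] at this
  simpa using this

variable {g ρ}

/-- The span of the translates of an eigenvector by `U⁻` is invariant. -/
theorem span_invariant {w : V} {χ : ℕ → Fˣ →* k} {ε : ℕ → k} (h : Eig g ρ w χ ε)
    (x : ↥(T.D.group F)) {z : V}
    (hz : z ∈ Submodule.span k ((fun y => ρ y w) '' (gV g.toGood F : Set ↥(T.D.group F)))) :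
    ρ x z ∈ Submodule.span k ((fun y => ρ y w) '' (gV g.toGood F : Set ↥(T.D.group F))) := by
  classical
  have hg := g.toGood
  set W := Submodule.span k ((fun y => ρ y w) '' (gV hg F : Set ↥(T.D.group F))) with hW
  let M : Submonoid ↥(T.D.group F) :=
    { carrier := {x | ∀ z ∈ W, ρ x z ∈ W}
      one_mem' := by simp
      mul_mem' := fun {a b} ha hb z hz => by
        rw [map_mul, Module.End.mul_apply]; exact ha _ (hb z hz) }
  have hclosed : ∀ x : ↥(T.D.group F), x ∈ M → x⁻¹ ∈ M := fun x hx => by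
    rw [inv_eq_of_mul_eq_one_right (show x * x ^ (orderOf x - 1) = 1 by
      rw [← pow_succ', Nat.sub_add_cancel (orderOf_pos x), pow_orderOf_eq_one])]
    exact pow_mem hx _
  let K : Subgroup ↥(T.D.group F) := { M with inv_mem' := fun {x} hx => hclosed x hx }
  have hK : ∀ x : ↥(T.D.group F), (∀ y ∈ gV hg F, ρ (x * y) w ∈ W) → x ∈ K := by
    intro x hx z hz
    induction hz using Submodule.span_induction with
    | mem z hz =>
      obtain ⟨y, hy, rfl⟩ := hz
      rw [← Module.End.mul_apply, ← map_mul]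
      exact hx y hy
    | zero => rw [map_zero]; exact zero_mem _
    | add a b _ _ ha hb => rw [map_add]; exact add_mem ha hb
    | smul c a _ ha => rw [map_smul]; exact W.smul_mem c ha
  have hV : ∀ y ∈ gV hg F, y ∈ K := fun y hy => hK y fun y' hy' =>
    Submodule.subset_span ⟨_, mul_mem hy hy', rfl⟩
  have hN : ∀ i < T.l, eN hg F i ∈ K := by
    intro i hi
    have hXN : ∀ a : F, a ≠ 0 → ρ (eX hg F i a * eN hg F i) w ∈ W := by
      intro a ha
      set u := -(Units.mk0 a ha)
      have he := congrArg (fun y => ρ y w) (eY_eq (F := F) hg hi u)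
      have hau : -((u : Fˣ) : F) = a := by simp [u]
      simp only [hau] at he
      have hmem : ρ (eY hg F i (-(u : F)⁻¹)) w ∈ W :=
        Submodule.subset_span ⟨_, eY_mem_gV hg hi _, rfl⟩
      rw [he, map_mul, Module.End.mul_apply, h.fix _ (eX_mem_gU hg hi _),
        show eX hg F i a * (eH hg F i u * eN hg F i) =
          eX hg F i a * eN hg F i * eH hg F i u⁻¹ by
          rw [mul_assoc (eX hg F i a), eN_H hg hi, inv_inv],
        map_mul, Module.End.mul_apply, h.tor i hi, map_smul] at hmem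
      have := W.smul_mem (χ i u) hmem
      rwa [smul_smul, ← map_mul, mul_inv_cancel, map_one, one_smul] at this
    have hXN0 : ρ (eN hg F i) w ∈ W := by
      have ht := h.top i hi
      rw [top_apply, ← Finset.add_sum_erase _ _ (Finset.mem_univ (0 : F)), eX_zero, one_mul] at ht
      rw [eq_sub_of_add_eq ht]
      refine W.sub_mem (W.smul_mem _ (Submodule.subset_span ⟨1, one_mem _, by simp⟩))
        (W.sum_mem fun a ha => hXN a (Finset.ne_of_mem_erase ha))
    obtain ⟨hX', hY', hN', hsplit⟩ := gD_normalized (F := F) g hi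
    refine hK _ fun y hy => ?_
    obtain ⟨e, he, t, rfl⟩ := hsplit y hy
    rw [show eN hg F i * (e * eY hg F i t) =
      (eN hg F i * e * (eN hg F i)⁻¹) * (eN hg F i * eY hg F i t) by group, eN_Y hg hi, map_mul,
      Module.End.mul_apply]
    refine hV _ (gD_le hg i (hN' e he)) _ ?_
    rcases eq_or_ne (-t) 0 with h0 | h0
    · rw [h0, eX_zero, one_mul]; exact hXN0
    · exact hXN _ h0
  have hX : ∀ i < T.l, ∀ t : F, eX hg F i t ∈ K := by
    intro i hi t
    have h' : eX hg F i t = eN hg F i * eY hg F i (-t) * (eN hg F i)⁻¹ := by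
      rw [eN_Y hg hi, _root_.neg_neg, mul_inv_cancel_right]
    rw [h']
    exact mul_mem (mul_mem (hN i hi) (hV _ (eY_mem_gV hg hi _))) (inv_mem (hN i hi))
  have hx := group_le_of_simple (F := F) hg (K := K.map (T.D.group F).subtype)
    (fun i hi t => ⟨_, hX i hi t, rfl⟩) (fun i hi => ⟨_, hN i hi, rfl⟩) x.2
  obtain ⟨x', hx', e⟩ := hx
  obtain rfl : x' = x := Subtype.ext e
  exact hx' z hz

variable [FiniteDimensional k V]

theorem span_eq_top {w : V} {χ : ℕ → Fˣ →* k} {ε : ℕ → k} (h : Eig g ρ w χ ε) (hs : IsSimp ρ) :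
    Submodule.span k ((fun y => ρ y w) '' (gV g.toGood F : Set ↥(T.D.group F))) = ⊤ :=
  (hs.2 _ fun x _ hz => span_invariant h x hz).resolve_left fun h0 => h.ne (by
    have hw : w ∈ Submodule.span k ((fun y => ρ y w) '' (gV g.toGood F : Set ↥(T.D.group F))) :=
      Submodule.subset_span ⟨1, one_mem _, by simp⟩
    rwa [h0, Submodule.mem_bot] at hw)

theorem dual_ext {hg : T.Good} {w : V}
    (hW : Submodule.span k ((fun y => ρ y w) '' (gV hg F : Set ↥(T.D.group F))) = ⊤)
    {φ ψ : Module.Dual k V} (hφ : ∀ y ∈ gV hg F, φ.comp (ρ y) = φ)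
    (hψ : ∀ y ∈ gV hg F, ψ.comp (ρ y) = ψ) (he : φ w = ψ w) : φ = ψ := by
  refine LinearMap.ext_on hW ?_
  rintro _ ⟨y, hy, rfl⟩
  show φ (ρ y w) = ψ (ρ y w)
  rw [← LinearMap.comp_apply, hφ y hy, ← LinearMap.comp_apply, hψ y hy, he]

include p in
omit [FiniteDimensional k V] in
/-- A `p`-group fixes a nonzero vector in characteristic `p`. -/
theorem exists_fixed {P : Type v} [Group P] [Finite P] (hP : IsPGroup p P)
    (σ : Representation k P V) [Nontrivial V] : ∃ w : V, w ≠ 0 ∧ ∀ x, σ x w = w := by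
  classical
  obtain ⟨w, hw⟩ := exists_ne (0 : V)
  letI : AddCommGroup V := inferInstance
  let S : AddSubgroup V := AddSubgroup.closure (Set.range fun x => σ x w)
  haveI hfgS : AddGroup.FG S := (AddGroup.fg_iff_addSubgroup_fg S).2
    ((AddSubgroup.fg_iff S).2 ⟨_, rfl, Set.finite_range _⟩)
  have htor : ∀ z : S, p • z = 0 := fun z => Subtype.ext (by
    rw [AddSubmonoidClass.coe_nsmul, ← Nat.cast_smul_eq_nsmul k, CharP.cast_eq_zero k p, zero_smul]
    rfl)
  haveI : Finite S := AddCommGroup.finite_of_fg_torsion S fun z =>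
    isOfFinAddOrder_iff_nsmul_eq_zero.2 ⟨p, (Fact.out : p.Prime).pos, htor z⟩
  have hstab : ∀ x, ∀ z ∈ S, σ x z ∈ S := by
    intro x z hz
    induction hz using AddSubgroup.closure_induction with
    | mem z hz =>
      obtain ⟨y, rfl⟩ := hz
      exact AddSubgroup.subset_closure ⟨x * y, by show σ (x * y) w = σ x (σ y w); rw [map_mul]; rfl⟩
    | zero => rw [map_zero]; exact zero_mem _
    | add a b _ _ ha hb => rw [map_add]; exact add_mem ha hb
    | neg a _ ha => rw [map_neg]; exact neg_mem ha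
  letI : MulAction P S :=
    { smul := fun x z => ⟨σ x z, hstab x z z.2⟩
      one_smul := fun z => Subtype.ext (by show σ 1 (z : V) = z; simp)
      mul_smul := fun a b z => Subtype.ext (by show σ (a * b) (z : V) = σ a (σ b z); simp) }
  haveI : Nontrivial S := ⟨⟨w, AddSubgroup.subset_closure ⟨1, by simp⟩⟩, 0,
    fun e => hw (congrArg Subtype.val e)⟩
  have hdvd : p ∣ Nat.card S := by
    obtain ⟨z, hz⟩ := exists_ne (0 : S)
    rw [← addOrderOf_eq_prime (htor z) hz]
    exact addOrderOf_dvd_natCard z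
  obtain ⟨z, hz, hne⟩ := hP.exists_fixed_point_of_prime_dvd_card_of_fixed_point S hdvd
    (a := (0 : S)) (fun x => Subtype.ext (by show σ x (0 : V) = 0; simp))
  exact ⟨(z : V), fun e => hne (Subtype.ext e.symm), fun x => congrArg Subtype.val (hz x)⟩

include p in
theorem fixU_ne_bot [Nontrivial V] : fixU g ρ ≠ ⊥ := by
  obtain ⟨w, hw, hfix⟩ := exists_fixed p (gU_isPGroup (F := F) g.toGood p)
    (MonoidHom.comp ρ (gU g.toGood F).subtype)
  exact (Submodule.ne_bot_iff _).2 ⟨w, fun u hu => hfix ⟨u, hu⟩, hw⟩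

/-- the orbit of a coset of `U` under `U` -/
noncomputable def orb (g : T.Good) (x : ↥(T.D.group F)) : Finset (↥(T.D.group F) ⧸ gU g F) :=
  (Set.toFinite (Set.range fun u : gU g F =>
    (((u : ↥(T.D.group F)) * x : ↥(T.D.group F)) : ↥(T.D.group F) ⧸ gU g F))).toFinset

theorem mem_orb {hg : T.Good} {x : ↥(T.D.group F)} {c : ↥(T.D.group F) ⧸ gU hg F} :
    c ∈ orb hg x ↔ ∃ u ∈ gU hg F, ((u * x : ↥(T.D.group F)) : _ ⧸ gU hg F) = c := by
  rw [orb, Set.Finite.mem_toFinset, Set.mem_range]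
  exact ⟨fun ⟨u, hu⟩ => ⟨u, u.2, hu⟩, fun ⟨u, hu, e⟩ => ⟨⟨u, hu⟩, e⟩⟩

variable (g ρ)

/-- the operator of a double coset -/
noncomputable def dop (x : ↥(T.D.group F)) (w : V) : V := ∑ c ∈ orb g.toGood x, ρ c.out w

variable {g ρ}

theorem rho_out {w : V} (hw : w ∈ fixU g ρ) (y : ↥(T.D.group F)) :
    ρ (y : ↥(T.D.group F) ⧸ gU g.toGood F).out w = ρ y w := by
  obtain ⟨u, hu⟩ := QuotientGroup.mk_out_eq_mul (gU g.toGood F) y
  rw [hu, map_mul, Module.End.mul_apply, hw u u.2]

theorem dop_torus {w : V} (hw : w ∈ fixU g ρ) (c : ℕ → Fˣ) :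
    dop g ρ (eT g.toGood F c) w = ρ (eT g.toGood F c) w := by
  have : orb g.toGood (eT g.toGood F c) = {((eT g.toGood F c : ↥(T.D.group F)) : _ ⧸ gU g.toGood F)} := by
    ext x
    rw [mem_orb, Finset.mem_singleton]
    refine ⟨?_, fun e => ⟨1, one_mem _, by rw [one_mul, e]⟩⟩
    rintro ⟨u, hu, rfl⟩
    refine QuotientGroup.eq.2 ?_
    have h1 := eT_gU g.toGood c⁻¹ (inv_mem hu)
    rw [map_inv, inv_inv] at h1
    convert h1 using 1
    group
  rw [dop, this, Finset.sum_singleton, rho_out hw]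

include p in
/-- Composition with a fundamental operator. -/
theorem top_dop {w : V} (hw : w ∈ fixU g ρ) {i : ℕ} (hi : i < T.l) {x : ↥(T.D.group F)}
    (hx : (x : GL T.D.Idx F) ∈ T.D.monomialSubgroup F)
    (hgrow : ∀ t : F, x⁻¹ * eX g.toGood F i t * x ∈ gU g.toGood F) :
    top g ρ i (dop g ρ x w) = dop g ρ (eN g.toGood F i * x) w := by
  classical
  have hg := g.toGood
  set n := eN hg F i with hn
  rw [top_apply, dop, dop]
  simp only [map_sum]
  rw [← Finset.sum_product']
  -- `n` normalises the exceptional subgroup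
  have hE : ∀ e ∈ gE hg F i, n * e * n⁻¹ ∈ gE hg F i := fun e he => eN_gE g hi he
  have hE' : ∀ e ∈ gE hg F i, n⁻¹ * e * n ∈ gU hg F := fun e he => by
    have h3 := eT_gU hg (Pi.mulSingle i (-1)) (gE_le hg i (hE e he))
    change eH hg F i (-1) * (n * e * n⁻¹) * (eH hg F i (-1))⁻¹ ∈ _ at h3
    convert h3 using 1
    rw [show eH hg F i (-1) = n⁻¹ * n⁻¹ from eq_mul_inv_of_mul_eq (eN_inv hg hi).symm]
    group
  refine Finset.sum_bij (fun ac _ =>
    (((eX hg F i ac.1 * n * ac.2.out : ↥(T.D.group F))) : _ ⧸ gU hg F)) ?_ ?_ ?_ ?_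
  · rintro ⟨a, c⟩ hac
    obtain ⟨u, hu, rfl⟩ := mem_orb.1 (Finset.mem_product.1 hac).2
    obtain ⟨v, hv⟩ := QuotientGroup.mk_out_eq_mul (gU hg F) (u * x)
    obtain ⟨e, he, t, rfl⟩ := gU_split g hi hu
    refine mem_orb.2 ⟨eX hg F i a * (n * e * n⁻¹),
      mul_mem (eX_mem_gU hg hi a) (gE_le hg i (hE e he)), QuotientGroup.eq.2 ?_⟩
    rw [hv]
    convert mul_mem (hgrow t) v.2 using 1
    group
  · rintro ⟨a, c⟩ hac ⟨b, c'⟩ hbc h
    obtain ⟨u, hu, hc⟩ := mem_orb.1 (Finset.mem_product.1 hac).2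
    obtain ⟨u', hu', hc'⟩ := mem_orb.1 (Finset.mem_product.1 hbc).2
    subst hc hc'
    obtain ⟨v, hv⟩ := QuotientGroup.mk_out_eq_mul (gU hg F) (u * x)
    obtain ⟨v', hv'⟩ := QuotientGroup.mk_out_eq_mul (gU hg F) (u' * x)
    have hq := QuotientGroup.eq.1 h
    simp only [hv, hv'] at hq
    have hY : (v⁻¹ : ↥(T.D.group F)) * (x⁻¹ * u⁻¹ * eY hg F i (a - b) * u' * x) * v' ∈ gU hg F := by
      convert hq using 1
      rw [show eY hg F i (a - b) = n⁻¹ * ((eX hg F i a)⁻¹ * eX hg F i b) * n by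
        rw [eX_inv, eX_add, mul_assoc, show eX hg F i (-a + b) * n = n * eY hg F i (a - b) by
          rw [eN_Y hg hi]; congr 2; ring]
        group]
      group
    have hy : x⁻¹ * u⁻¹ * eY hg F i (a - b) * u' * x ∈ gU hg F := by
      have := mul_mem (mul_mem v.2 hY) (inv_mem v'.2)
      convert this using 1
      group
    rcases eq_or_ne (a - b) 0 with h0 | h0
    · obtain rfl : a = b := sub_eq_zero.1 h0
      rw [sub_self, eY_zero, mul_one] at hy
      refine Prod.ext rfl (QuotientGroup.eq.2 ?_)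
      convert hy using 1
      group
    exfalso
    set s : Fˣ := -(Units.mk0 _ h0)⁻¹
    have hY' := eY_eq (F := F) hg hi s
    have hs : -((s : F))⁻¹ = a - b := by simp [s]
    rw [hs] at hY'
    set X := eX hg F i (-(s : F))
    obtain ⟨e, he, t, ht⟩ := gU_split g hi (mul_mem (eX_mem_gU hg hi (-(s : F))) hu')
    set m := eH hg F i s * n with hm
    have he' : m * e * m⁻¹ ∈ gU hg F := by
      have h3 := eT_gU hg (Pi.mulSingle i s) (gE_le hg i (hE e he))
      change eH hg F i s * (n * e * n⁻¹) * (eH hg F i s)⁻¹ ∈ _ at h3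
      convert h3 using 1
      rw [hm]
      group
    have hmx : ((m * x : ↥(T.D.group F)) : GL T.D.Idx F) ∈ T.D.monomialSubgroup F := by
      rw [Subgroup.coe_mul]
      refine mul_mem ?_ hx
      rw [hm, Subgroup.coe_mul, eH_coe, eN_coe, hS_eq_tor]
      exact mul_mem (torus_le_monomial hg _) (nG_mem_monomial hg hi)
    have heq := monomial_unique g p hmx hx
      (u := u⁻¹ * (X * (m * e * m⁻¹)))
      (u' := (x⁻¹ * eX hg F i t * x) * (x⁻¹ * u⁻¹ * eY hg F i (a - b) * u' * x)⁻¹)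
      (mul_mem (inv_mem hu) (mul_mem (eX_mem_gU hg hi _) he'))
      (mul_mem (hgrow t) (inv_mem hy)) (by
        rw [hY']
        have ht' : u' = X⁻¹ * (e * eX hg F i t) := by rw [← ht]; exact (inv_mul_cancel_left X u').symm
        rw [ht']
        group)
    have hm1 : m = 1 := mul_eq_right.1 heq
    have h1 : eX hg F i 1 = eY hg F i (-1) := by
      have h2 := eN_X hg hi (1 : F)
      have h3 : n = (eH hg F i s)⁻¹ := eq_inv_of_mul_eq_one_right hm1
      obtain ⟨α, hα⟩ := eT_conj (F := F) hg (Pi.mulSingle i s)⁻¹ hi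
      have h4 := hα (1 : F)
      rw [map_inv] at h4
      change (eH hg F i s)⁻¹ * _ = _ * (eH hg F i s)⁻¹ at h4
      rw [← h3] at h4
      have h5 : eX hg F i ((α : F) * 1) = eY hg F i (-1) := mul_right_cancel (h4.symm.trans h2)
      have h6 : ((eY hg F i (-1) : ↥(T.D.group F)) : GL T.D.Idx F) = 1 := borel_inf_neg hg
        (h5 ▸ genS_pos_le_borel hg (fun r hr => hr) (eX_mem_gU hg hi _))
        (eY_mem_gV hg hi _)
      rw [eY_coe, ← xg_zero hg (T.neg (T.smp i))] at h6
      exact absurd (xg_injective hg (neg_lt (hg.smp_lt hi)) h6) (by simp)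
    have h6 : ((eY hg F i (-1) : ↥(T.D.group F)) : GL T.D.Idx F) = 1 := borel_inf_neg hg
      (h1 ▸ genS_pos_le_borel hg (fun r hr => hr) (eX_mem_gU hg hi _)) (eY_mem_gV hg hi _)
    rw [eY_coe, ← xg_zero hg (T.neg (T.smp i))] at h6
    exact absurd (xg_injective hg (neg_lt (hg.smp_lt hi)) h6) (by simp)
  · intro c hc
    obtain ⟨u, hu, rfl⟩ := mem_orb.1 hc
    obtain ⟨e, he, a, rfl⟩ := gU_split g hi hu
    have he1 : (eX hg F i a)⁻¹ * e * eX hg F i a ∈ gE hg F i := by
      have := eX_gE g hi (-a) he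
      rwa [← eX_inv, inv_inv] at this
    refine ⟨⟨a, ((n⁻¹ * ((eX hg F i a)⁻¹ * e * eX hg F i a) * n * x : ↥(T.D.group F)) : _ ⧸ gU hg F)⟩,
      Finset.mem_product.2 ⟨Finset.mem_univ _, mem_orb.2 ⟨_, hE' _ he1, rfl⟩⟩, ?_⟩
    obtain ⟨v, hv⟩ := QuotientGroup.mk_out_eq_mul (gU hg F)
      (n⁻¹ * ((eX hg F i a)⁻¹ * e * eX hg F i a) * n * x)
    refine QuotientGroup.eq.2 ?_
    rw [hv]
    convert inv_mem v.2 using 1
    group
  · rintro ⟨a, c⟩ -
    rw [rho_out hw, map_mul _ (eX hg F i a * n), Module.End.mul_apply]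

include p in
/-- Double coset operators are composites of fundamental operators. -/
theorem dop_mem {S : Submodule k V} (hS : ∀ i < T.l, ∀ z ∈ S, top g ρ i z ∈ S)
    (hST : ∀ c, ∀ z ∈ S, ρ (eT g.toGood F c) z ∈ S) {w : V} (hw : w ∈ fixU g ρ) (hwS : w ∈ S)
    (hwT : TEig g ρ w) : ∀ (m : ℕ) {L : List ℕ}, T.Wd L → (T.invSet L.reverse).card ≤ m →
      ∀ c, dop g ρ (eT g.toGood F c * eW g.toGood F L) w ∈ S ∧
        TEig g ρ (dop g ρ (eT g.toGood F c * eW g.toGood F L) w) := by
  have hg := g.toGood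
  intro m
  induction m using Nat.strong_induction_on with
  | _ m ih =>
  intro L hL hm c
  by_cases hall : ∀ i < T.l, T.N ≤ T.rw' L.reverse (T.smp i)
  · obtain ⟨-, hfix⟩ := nWd_torus_of_pos (F := F) hg _ le_rfl hL.reverse
      (rw'_id_of_simple hg hL.reverse hall)
    obtain ⟨⟨d, hd⟩, -⟩ := nWd_torus_of_pos (F := F) hg _ le_rfl hL fun s h1 h2 => by
      have := rw'_rev hg hL h2
      rw [hfix _ (rw'_lt hg hL h2)] at this
      rw [this]
      exact h1
    have e : eW hg F L = eT hg F d := Subtype.ext (by rw [eW_coe, eT_coe, hd])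
    rw [e, ← map_mul, dop_torus hw]
    refine ⟨hST _ _ hwS, ?_⟩
    obtain ⟨s, hs⟩ := Submodule.mem_span_singleton.1 (hwT (c * d))
    intro c'
    obtain ⟨s', hs'⟩ := Submodule.mem_span_singleton.1 (hwT c')
    refine Submodule.mem_span_singleton.2 ⟨s', ?_⟩
    rw [← hs, map_smul, ← hs', smul_comm]
  push Not at hall
  obtain ⟨i, hi, hneg⟩ := hall
  have hiL : T.Wd (i :: L) := Wd.cons_iff.2 ⟨hi, hL⟩
  have hpos : T.N ≤ T.rw' (i :: L).reverse (T.smp i) := by
    rw [List.reverse_cons, rw'_append, rw'_cons, rw'_nil, hg.ref_smp hi,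
      rw'_neg hg hL.reverse (hg.smp_lt hi), N_le_neg_iff (rw'_lt hg hL.reverse (hg.smp_lt hi))]
    exact hneg
  have hcard : (T.invSet (i :: L).reverse).card < (T.invSet L.reverse).card := by
    have h1 := invSet_grow hg hiL.reverse hi hpos
    have h2 : T.invSet ((i :: L).reverse ++ [i]) = T.invSet L.reverse := by
      refine Finset.filter_congr fun s hs => ?_
      rw [List.reverse_cons, List.append_assoc, rw'_append, List.singleton_append, rw'_cons,
        rw'_cons, rw'_nil, hg.ref_ref hi (Finset.mem_Ico.1 hs).2]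
    rwa [h2] at h1
  obtain ⟨d, hd⟩ := wSub_conj_torus (F := F) hg (nG_mem_wSub hg hi) c
  have hd' : eN hg F i * eT hg F c = eT hg F d * eN hg F i :=
    Subtype.ext (mul_inv_eq_iff_eq_mul.1 hd)
  have he : (eN hg F i)⁻¹ * (eT hg F c * eW hg F L) =
      eT hg F (Pi.mulSingle i (-1) * d) * eW hg F (i :: L) := by
    rw [eN_inv hg hi, map_mul, eW_cons, mul_assoc, ← mul_assoc (eN hg F i), hd']
    show eH hg F i (-1) * _ = eH hg F i (-1) * _ * _
    group
  obtain ⟨h1, h2⟩ := ih _ (lt_of_lt_of_le hcard hm) hiL le_rfl (Pi.mulSingle i (-1) * d)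
  have h3 := top_dop p hw hi (eW_mem_monomial hg hiL _) fun t =>
    eX_conj_mem hg hiL (Pi.mulSingle i (-1) * d) hi hpos t
  rw [← he, mul_inv_cancel_left, he] at h3
  rw [← h3]
  exact ⟨hS i hi _ h1, top_tEig g ρ hi h2⟩

/-- A family of commuting maps has a common eigenvector in a stable subspace. -/
theorem exists_common_eigen [IsAlgClosed k] {α : Type*} (A : α → Module.End k V)
    (hA : ∀ a b, Commute (A a) (A b)) : ∀ (L : List α) (S : Submodule k V), S ≠ ⊥ →
      (∀ a, ∀ z ∈ S, A a z ∈ S) → ∃ z ∈ S, z ≠ 0 ∧ ∀ a ∈ L, A a z ∈ Submodule.span k {z}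
  | [], S, hS, _ => by
    obtain ⟨z, hz, hz0⟩ := (Submodule.ne_bot_iff S).1 hS
    exact ⟨z, hz, hz0, by simp⟩
  | a :: L, S, hS, hst => by
    haveI : Nontrivial S := Submodule.nontrivial_iff_ne_bot.2 hS
    obtain ⟨μ, hμ⟩ := Module.End.exists_eigenvalue ((A a).restrict (hst a))
    obtain ⟨z, hz, hz0⟩ := hμ.exists_hasEigenvector
    rw [Module.End.mem_eigenspace_iff] at hz
    have hz' : A a (z : V) = μ • (z : V) := congrArg Subtype.val hz
    obtain ⟨y, ⟨hy1, hy2⟩, hy0, hy⟩ := exists_common_eigen A hA L (S ⊓ Module.End.eigenspace (A a) μ)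
      ((Submodule.ne_bot_iff _).2 ⟨z, ⟨z.2, Module.End.mem_eigenspace_iff.2 hz'⟩,
        fun e => hz0 (Subtype.ext e)⟩)
      (fun b w hw => ⟨hst b w hw.1, Module.End.mem_eigenspace_iff.2 (by
        rw [← Module.End.mul_apply, (hA a b).eq, Module.End.mul_apply,
          Module.End.mem_eigenspace_iff.1 hw.2, map_smul])⟩)
    refine ⟨y, hy1, hy0, fun b hb => ?_⟩
    rcases List.mem_cons.1 hb with rfl | hb
    · rw [Module.End.mem_eigenspace_iff.1 hy2]
      exact Submodule.smul_mem _ _ (Submodule.mem_span_singleton_self y)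
    · exact hy b hb

variable [IsAlgClosed k]

include p in
/-- Every stable subspace of the fixed vectors contains an eigenvector. -/
theorem exists_eig {S : Submodule k V} (h0 : S ≠ ⊥) (hSfix : S ≤ fixU g ρ)
    (hS : ∀ i < T.l, ∀ z ∈ S, top g ρ i z ∈ S) (hST : ∀ c, ∀ z ∈ S, ρ (eT g.toGood F c) z ∈ S) :
    ∃ z χ ε, z ∈ S ∧ Eig g ρ z χ ε := by
  classical
  have hg := g.toGood
  obtain ⟨w, hwS, hw0, hwe⟩ := exists_common_eigen (fun q : ℕ × Fˣ => ρ (eH hg F q.1 q.2))
    (fun a b => by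
      refine Commute.map (?_ : Commute (eH hg F a.1 a.2) (eH hg F b.1 b.2)) ρ
      exact (Commute.all (Pi.mulSingle a.1 a.2 : ℕ → Fˣ) (Pi.mulSingle b.1 b.2)).map (eT hg F))
    ((List.range T.l).flatMap fun i => (Finset.univ : Finset Fˣ).toList.map fun u => (i, u)) S h0
    (fun q => hST _)
  have hwT : TEig g ρ w := tEig_of_eH g ρ p fun i hi u => hwe (i, u)
    (List.mem_flatMap.2 ⟨i, List.mem_range.2 hi, List.mem_map.2 ⟨u, Finset.mem_toList.2 (Finset.mem_univ u), rfl⟩⟩)
  have hw := hSfix hwS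
  -- a word of maximal length with nonzero operator
  have key : ∀ (m : ℕ) (L : List ℕ), T.Wd L → T.n - (T.invSet L.reverse).card ≤ m →
      dop g ρ (eW hg F L) w ≠ 0 → ∃ M, T.Wd M ∧ dop g ρ (eW hg F M) w ≠ 0 ∧
        ∀ i < T.l, T.N ≤ T.rw' M.reverse (T.smp i) → dop g ρ (eW hg F (i :: M)) w = 0 := by
    intro m
    induction m with
    | zero =>
      intro L hL hm hne
      refine ⟨L, hL, hne, fun i hi h => absurd ?_ (lt_irrefl T.n)⟩
      have h1 := invSet_grow hg hL.reverse hi h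
      have h2 : (T.invSet (L.reverse ++ [i])).card ≤ T.n := (Finset.card_filter_le _ _).trans (by simp)
      omega
    | succ m ih =>
      intro L hL hm hne
      by_cases hex : ∃ i < T.l, T.N ≤ T.rw' L.reverse (T.smp i) ∧ dop g ρ (eW hg F (i :: L)) w ≠ 0
      · obtain ⟨i, hi, h, hne'⟩ := hex
        have h1 := invSet_grow hg hL.reverse hi h
        exact ih (i :: L) (Wd.cons_iff.2 ⟨hi, hL⟩) (by rw [List.reverse_cons]; omega) hne'
      · push Not at hex
        exact ⟨L, hL, hne, hex⟩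
  obtain ⟨L, hL, hne, hmax⟩ := key T.n [] (by simp [Wd]) (Nat.sub_le _ _) (by
    rw [show eW hg F [] = eT hg F 1 from Subtype.ext (by simp), dop_torus hw, map_one, map_one]
    exact hw0)
  set z := dop g ρ (eW hg F L) w with hz
  obtain ⟨hzS, hzT⟩ := dop_mem p hS hST hw hwS hwT _ hL le_rfl 1
  rw [map_one, one_mul, ← hz] at hzS hzT
  have hchar : ∀ x : V, x ≠ 0 → TEig g ρ x → ∀ i : ℕ, ∃ χ : Fˣ →* k,
      ∀ u, ρ (eH hg F i u) x = χ u • x := by
    intro x hx hxT i
    choose s hs using fun u : Fˣ => Submodule.mem_span_singleton.1 (hxT (Pi.mulSingle i u))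
    refine ⟨{ toFun := s, map_one' := ?_, map_mul' := fun u v => ?_ }, fun u => (hs u).symm⟩
    · refine smul_left_injective k hx ?_
      show s 1 • x = (1 : k) • x
      rw [hs, Pi.mulSingle_one, map_one, map_one, one_smul]
      rfl
    · refine smul_left_injective k hx ?_
      show s (u * v) • x = (s u * s v) • x
      rw [hs, Pi.mulSingle_mul, map_mul, map_mul, Module.End.mul_apply, ← hs, map_smul, ← hs,
        smul_smul, mul_comm]
  choose χ hχ using hchar z hne hzT
  have heps : ∀ i, ∃ e : k, i < T.l → top g ρ i z = e • z := by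
    intro i
    by_cases hi : i < T.l
    swap
    · exact ⟨0, fun h => absurd h hi⟩
    by_cases h : T.N ≤ T.rw' L.reverse (T.smp i)
    · refine ⟨0, fun _ => ?_⟩
      have hgr := top_dop p hw hi (x := eW hg F L) (by
        have := eW_mem_monomial (F := F) hg hL 1
        rwa [map_one, one_mul] at this) fun t => by
        have := eX_conj_mem (F := F) hg hL 1 hi h t
        rwa [map_one, one_mul] at this
      rw [← eW_cons, hmax i hi h, ← hz] at hgr
      rw [hgr, zero_smul]
    · have hiL : T.Wd (i :: L) := Wd.cons_iff.2 ⟨hi, hL⟩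
      have hpos : T.N ≤ T.rw' (i :: L).reverse (T.smp i) := by
        rw [List.reverse_cons, rw'_append, rw'_cons, rw'_nil, hg.ref_smp hi,
          rw'_neg hg hL.reverse (hg.smp_lt hi), N_le_neg_iff (rw'_lt hg hL.reverse (hg.smp_lt hi))]
        exact not_le.1 h
      set x := eT hg F (Pi.mulSingle i (-1)) * eW hg F (i :: L) with hx
      have he : eN hg F i * x = eW hg F L := by
        rw [hx, eW_cons, show eT hg F (Pi.mulSingle i (-1)) * (eN hg F i * eW hg F L) =
          (eN hg F i)⁻¹ * eW hg F L by rw [eN_inv hg hi]; exact (mul_assoc _ _ _).symm,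
          mul_inv_cancel_left]
      have hgr := top_dop p hw hi (eW_mem_monomial hg hiL _) fun t =>
        eX_conj_mem hg hiL (Pi.mulSingle i (-1)) hi hpos t
      rw [he, ← hz] at hgr
      obtain ⟨hyS, hyT⟩ := dop_mem p hS hST hw hwS hwT _ hiL le_rfl (Pi.mulSingle i (-1))
      rw [← hx] at hyS hyT
      have hy0 : dop g ρ x w ≠ 0 := fun e => hne (by rw [← hgr, e, map_zero])
      obtain ⟨ψ, hψ⟩ := hchar _ hy0 hyT i
      exact ⟨∑ u, ψ u, fun _ => by rw [← hgr, top_top g ρ p hi (hSfix hyS) ψ hψ]⟩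
  choose ε hε using heps
  exact ⟨z, χ, ε, hzS, ⟨hne, hSfix hzS, fun i _ u => hχ i u, fun i hi => hε i hi⟩⟩

omit [IsAlgClosed k] in
theorem fixU_stable (c : ℕ → Fˣ) {z : V} (hz : z ∈ fixU g ρ) :
    ρ (eT g.toGood F c) z ∈ fixU g ρ := by
  intro u hu
  have h := eT_gU g.toGood c⁻¹ hu
  rw [map_inv, inv_inv] at h
  rw [← Module.End.mul_apply, ← map_mul,
    show u * eT g.toGood F c = eT g.toGood F c * ((eT g.toGood F c)⁻¹ * u * eT g.toGood F c) by group,
    map_mul, Module.End.mul_apply, hz _ h]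

include p in
/-- A nonzero representation has an eigenvector. -/
theorem exists_eig' [Nontrivial V] : ∃ z χ ε, Eig g ρ z χ ε := by
  obtain ⟨z, χ, ε, -, h⟩ := exists_eig p (fixU_ne_bot (g := g) (ρ := ρ) p) le_rfl
    (fun i hi z hz => top_mem_fixU g ρ hi hz) (fun c z hz => fixU_stable c hz)
  exact ⟨z, χ, ε, h⟩

include p in
/-- A simple representation has only one fixed line. -/
theorem fixU_le_span {w : V} {χ : ℕ → Fˣ →* k} {ε : ℕ → k} (h : Eig g ρ w χ ε) (hs : IsSimp ρ) :
    fixU g ρ ≤ Submodule.span k {w} := by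
  classical
  have hg := g.toGood
  haveI := hs.1
  have hW := span_eq_top h hs
  let σ : Representation k (gV hg F) (Module.Dual k V) :=
    { toFun := fun y => (ρ ((y⁻¹ : gV hg F) : ↥(T.D.group F))).dualMap
      map_one' := by
        refine LinearMap.ext fun φ => LinearMap.ext fun x => ?_
        simp
      map_mul' := fun a b => by
        refine LinearMap.ext fun φ => LinearMap.ext fun x => ?_
        simp [mul_inv_rev] }
  obtain ⟨φ, hφ0, hφ⟩ := exists_fixed p (gV_isPGroup (F := F) hg p) σ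
  have hφ' : ∀ y ∈ gV hg F, φ.comp (ρ y) = φ := by
    intro y hy
    have := hφ ⟨y⁻¹, inv_mem hy⟩
    refine LinearMap.ext fun x => ?_
    have := LinearMap.congr_fun this x
    simpa [σ] using this
  have hφw : φ w ≠ 0 := fun e => hφ0 (dual_ext hW hφ' (fun _ _ => LinearMap.zero_comp _) (by simpa using e))
  have hfun : ∀ (A : V →ₗ[k] V) (s : k), (∀ y ∈ gV hg F, (φ.comp A).comp (ρ y) = φ.comp A) →
      A w = s • w → φ.comp A = s • φ := by
    intro A s hA hAw
    refine dual_ext hW hA (fun y hy => by rw [LinearMap.smul_comp, hφ' y hy]) ?_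
    rw [LinearMap.comp_apply, hAw, map_smul, LinearMap.smul_apply]
  by_contra hnle
  obtain ⟨z, hz, hz'⟩ := Set.not_subset.1 hnle
  let S := fixU g ρ ⊓ LinearMap.ker φ
  have hS0 : S ≠ ⊥ := by
    refine (Submodule.ne_bot_iff _).2 ⟨z - (φ z / φ w) • w, ⟨?_, ?_⟩, fun e => hz' ?_⟩
    · exact sub_mem hz (Submodule.smul_mem _ _ h.fix)
    · rw [SetLike.mem_coe, LinearMap.mem_ker, map_sub, map_smul, smul_eq_mul, div_mul_cancel₀ _ hφw,
        sub_self]
    · exact Submodule.mem_span_singleton.2 ⟨_, (sub_eq_zero.1 e).symm⟩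
  obtain ⟨z₂, χ₂, ε₂, hz₂, h₂⟩ := exists_eig (S := S) p hS0 inf_le_left (fun i hi y hy => by
      refine ⟨top_mem_fixU g ρ hi hy.1, ?_⟩
      obtain ⟨hX', hY', hN', hsplit⟩ := gD_normalized (F := F) g hi
      have hAy : ∀ u ∈ gV hg F, (φ.comp (top g ρ i)).comp (ρ u) = φ.comp (top g ρ i) := by
        intro u hu
        obtain ⟨e, he, c, rfl⟩ := hsplit u hu
        refine LinearMap.ext fun x => ?_
        simp only [LinearMap.comp_apply, top_apply, map_sum]
        refine Fintype.sum_equiv (Equiv.subRight c) _ _ fun a => ?_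
        simp only [Equiv.subRight_apply]
        rw [← Module.End.mul_apply, ← map_mul,
          show eX hg F i a * eN hg F i * (e * eY hg F i c) =
            (eX hg F i a * (eN hg F i * e * (eN hg F i)⁻¹) * (eX hg F i a)⁻¹) *
              (eX hg F i a * (eN hg F i * eY hg F i c)) by group,
          eN_Y hg hi, ← mul_assoc (eX hg F i a) (eX hg F i (-c)), eX_add, ← sub_eq_add_neg, map_mul,
          Module.End.mul_apply, ← LinearMap.comp_apply,
          hφ' _ (gD_le hg i (hX' a _ (hN' e he)))]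
      rw [SetLike.mem_coe, LinearMap.mem_ker, ← LinearMap.comp_apply, hfun _ _ hAy (h.top i hi),
        LinearMap.smul_apply, LinearMap.mem_ker.1 hy.2, smul_zero])
    (fun c y hy => by
      refine ⟨fixU_stable c hy.1, ?_⟩
      obtain ⟨s, hsw⟩ := Submodule.mem_span_singleton.1 (tEig_of_eH g ρ p (fun i hi u => by
        rw [h.tor i hi u]; exact Submodule.smul_mem _ _ (Submodule.mem_span_singleton_self w)) c)
      rw [SetLike.mem_coe, LinearMap.mem_ker, ← LinearMap.comp_apply, hfun _ s (fun u hu => by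
        refine LinearMap.ext fun x => ?_
        simp only [LinearMap.comp_apply]
        rw [← Module.End.mul_apply, ← map_mul,
          show eT hg F c * u = (eT hg F c * u * (eT hg F c)⁻¹) * eT hg F c by group,
          map_mul, Module.End.mul_apply, ← LinearMap.comp_apply, hφ' _ (eT_gV hg c hu)]) hsw.symm,
        LinearMap.smul_apply, LinearMap.mem_ker.1 hy.2, smul_zero])
  refine hφ0 (dual_ext (span_eq_top h₂ hs) hφ' (fun _ _ => LinearMap.zero_comp _) ?_)
  simpa using LinearMap.mem_ker.1 hz₂.2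

include p in
/-- The weight of a simple representation is unique. -/
theorem eig_unique {w w' : V} {χ χ' : ℕ → Fˣ →* k} {ε ε' : ℕ → k} (h : Eig g ρ w χ ε)
    (h' : Eig g ρ w' χ' ε') (hs : IsSimp ρ) :
    ∀ i < T.l, χ i = χ' i ∧ ε i = ε' i := by
  intro i hi
  obtain ⟨c, rfl⟩ := Submodule.mem_span_singleton.1 (fixU_le_span p h hs h'.fix)
  have hc : c ≠ 0 := fun e => h'.ne (by rw [e, zero_smul])
  refine ⟨MonoidHom.ext fun u => ?_, ?_⟩
  · have := h'.tor i hi u
    rw [map_smul, h.tor i hi u, smul_smul, smul_smul] at this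
    exact mul_left_cancel₀ hc ((smul_left_injective k h.ne this).trans (mul_comm _ _))
  · have := h'.top i hi
    rw [map_smul, h.top i hi, smul_smul, smul_smul] at this
    exact mul_left_cancel₀ hc ((smul_left_injective k h.ne this).trans (mul_comm _ _))

include p in
omit [IsAlgClosed k] in
/-- The possible values of a fundamental operator. -/
theorem eig_eps {w : V} {χ : ℕ → Fˣ →* k} {ε : ℕ → k} (h : Eig g ρ w χ ε) {i : ℕ} (hi : i < T.l) :
    ε i = 0 ∨ ε i = ∑ u : Fˣ, χ i u := by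
  have h2 := top_top g ρ p hi h.fix (χ i) (h.tor i hi)
  rw [h.top i hi, map_smul, h.top i hi, smul_smul, smul_smul] at h2
  rcases eq_or_ne (ε i) 0 with h0 | h0
  · exact Or.inl h0
  · exact Or.inr (mul_right_cancel₀ h0 (smul_left_injective k h.ne h2))

variable {V' : Type v} [AddCommGroup V'] [Module k V'] [FiniteDimensional k V']
  {ρ' : Representation k ↥(T.D.group F) V'}

include p in
/-- Simple representations with the same weight are isomorphic. -/
theorem equiv_of_eig {w : V} {w' : V'} {χ : ℕ → Fˣ →* k} {ε : ℕ → k} (h : Eig g ρ w χ ε)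
    (h' : Eig g ρ' w' χ ε) (hs : IsSimp ρ) (hs' : IsSimp ρ') :
    ∃ e : V ≃ₗ[k] V', ∀ x z, e (ρ x z) = ρ' x (e z) := by
  classical
  have hg := g.toGood
  haveI := hs.1
  haveI := hs'.1
  let σ : Representation k ↥(T.D.group F) (V × V') :=
    { toFun := fun x => (ρ x).prodMap (ρ' x)
      map_one' := by simp [LinearMap.prodMap_one]
      map_mul' := fun a b => by simp [LinearMap.prodMap_mul] }
  have hσ : Eig g σ (w, w') χ ε := by
    refine ⟨fun e => h.ne (Prod.ext_iff.1 e).1, fun u hu => Prod.ext (h.fix u hu) (h'.fix u hu),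
      fun i hi u => Prod.ext (h.tor i hi u) (h'.tor i hi u), fun i hi => ?_⟩
    rw [top_apply]
    refine Prod.ext ?_ ?_
    · rw [Prod.fst_sum]
      exact (top_apply g ρ i w).symm.trans (h.top i hi)
    · rw [Prod.snd_sum]
      exact (top_apply g ρ' i w').symm.trans (h'.top i hi)
  set W := Submodule.span k ((fun y => σ y (w, w')) '' (gV hg F : Set ↥(T.D.group F))) with hW
  have hinv : ∀ x, ∀ z ∈ W, σ x z ∈ W := fun x z hz => span_invariant hσ x hz
  have hww : (w, w') ∈ W := Submodule.subset_span ⟨1, one_mem _, by simp⟩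
  have htop : W ≠ ⊤ := by
    intro htop
    have hVσ : ∀ {U : Type v} [AddCommGroup U] [Module k U] [FiniteDimensional k U] [Nontrivial U]
        (τ : Representation k ↥(T.D.group F) U),
        ∃ φ : Module.Dual k U, φ ≠ 0 ∧ ∀ y ∈ gV hg F, φ.comp (τ y) = φ := by
      intro U _ _ _ _ τ
      obtain ⟨φ, hφ0, hφ⟩ := exists_fixed p (gV_isPGroup (F := F) hg p)
        ({ toFun := fun y => (τ ((y⁻¹ : gV hg F) : ↥(T.D.group F))).dualMap
           map_one' := LinearMap.ext fun φ => LinearMap.ext fun x => by simp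
           map_mul' := fun a b => LinearMap.ext fun φ => LinearMap.ext fun x => by
             simp [mul_inv_rev] } : Representation k (gV hg F) (Module.Dual k U))
      refine ⟨φ, hφ0, fun y hy => ?_⟩
      refine LinearMap.ext fun x => ?_
      simpa using LinearMap.congr_fun (hφ ⟨y⁻¹, inv_mem hy⟩) x
    obtain ⟨φ, hφ0, hφ⟩ := hVσ ρ
    obtain ⟨φ', hφ0', hφ'⟩ := hVσ ρ'
    have hw1 : φ w ≠ 0 := fun e => hφ0
      (dual_ext (span_eq_top h hs) hφ (fun _ _ => LinearMap.zero_comp _) (by simpa using e))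
    have hw2 : φ' w' ≠ 0 := fun e => hφ0'
      (dual_ext (span_eq_top h' hs') hφ' (fun _ _ => LinearMap.zero_comp _) (by simpa using e))
    have e := dual_ext (ρ := σ) (hg := hg) (w := (w, w')) htop
      (φ := (φ w)⁻¹ • φ.comp (LinearMap.fst k V V')) (ψ := (φ' w')⁻¹ • φ'.comp (LinearMap.snd k V V'))
      (fun y hy => by
        refine LinearMap.ext fun z => ?_
        simp only [LinearMap.comp_apply, LinearMap.smul_apply, LinearMap.fst_apply]
        show (φ w)⁻¹ • (φ.comp (ρ y)) z.1 = _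
        rw [hφ y hy])
      (fun y hy => by
        refine LinearMap.ext fun z => ?_
        simp only [LinearMap.comp_apply, LinearMap.smul_apply, LinearMap.snd_apply]
        show (φ' w')⁻¹ • (φ'.comp (ρ' y)) z.2 = _
        rw [hφ' y hy])
      (by simp [inv_mul_cancel₀ hw1, inv_mul_cancel₀ hw2])
    have := LinearMap.congr_fun e (w, (0 : V'))
    simp [inv_mul_cancel₀ hw1] at this
  -- the projections are isomorphisms
  let π : W →ₗ[k] V := (LinearMap.fst k V V').comp W.subtype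
  let π' : W →ₗ[k] V' := (LinearMap.snd k V V').comp W.subtype
  have hsurj : ∀ (a : V), ∃ b, (a, b) ∈ W := by
    have := (hs.2 (W.map (LinearMap.fst k V V')) ?_).resolve_left ?_
    · intro a
      obtain ⟨⟨a', b⟩, hb, rfl⟩ := (this.symm ▸ Submodule.mem_top : a ∈ W.map (LinearMap.fst k V V'))
      exact ⟨b, hb⟩
    · rintro x _ ⟨z, hz, rfl⟩
      exact ⟨σ x z, hinv x z hz, rfl⟩
    · intro e
      exact h.ne ((Submodule.eq_bot_iff _).1 e w ⟨_, hww, rfl⟩)
  have hsurj' : ∀ (b : V'), ∃ a, (a, b) ∈ W := by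
    have := (hs'.2 (W.map (LinearMap.snd k V V')) ?_).resolve_left ?_
    · intro b
      obtain ⟨⟨a, b'⟩, hb, rfl⟩ := (this.symm ▸ Submodule.mem_top : b ∈ W.map (LinearMap.snd k V V'))
      exact ⟨a, hb⟩
    · rintro x _ ⟨z, hz, rfl⟩
      exact ⟨σ x z, hinv x z hz, rfl⟩
    · intro e
      exact h'.ne ((Submodule.eq_bot_iff _).1 e w' ⟨_, hww, rfl⟩)
  have hker : ∀ b, ((0 : V), b) ∈ W → b = 0 := by
    rcases hs'.2 (W.comap (LinearMap.inr k V V')) (fun x b hb => by
      have := hinv x _ hb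
      show ((0 : V), ρ' x b) ∈ W
      convert this using 1
      exact Prod.ext (map_zero (ρ x)).symm rfl) with e | e
    · exact fun b hb => (Submodule.eq_bot_iff _).1 e b hb
    · refine absurd (eq_top_iff.2 fun z _ => ?_) htop
      obtain ⟨b, hb⟩ := hsurj z.1
      have hb' : ((0 : V), z.2 - b) ∈ W := (e.symm ▸ Submodule.mem_top :
        z.2 - b ∈ W.comap (LinearMap.inr k V V'))
      simpa using W.add_mem hb hb'
  have hker' : ∀ a, (a, (0 : V')) ∈ W → a = 0 := by
    rcases hs.2 (W.comap (LinearMap.inl k V V')) (fun x a ha => by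
      have := hinv x _ ha
      show (ρ x a, (0 : V')) ∈ W
      convert this using 1
      exact Prod.ext rfl (map_zero (ρ' x)).symm) with e | e
    · exact fun a ha => (Submodule.eq_bot_iff _).1 e a ha
    · refine absurd (eq_top_iff.2 fun z _ => ?_) htop
      obtain ⟨a, ha⟩ := hsurj' z.2
      have ha' : (z.1 - a, (0 : V')) ∈ W := (e.symm ▸ Submodule.mem_top :
        z.1 - a ∈ W.comap (LinearMap.inl k V V'))
      simpa using W.add_mem ha ha'
  let e₁ : W ≃ₗ[k] V := LinearEquiv.ofBijective π ⟨(injective_iff_map_eq_zero π).2 fun z hz => by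
      obtain ⟨⟨a, b⟩, hz'⟩ := z
      change a = 0 at hz
      subst hz
      exact Subtype.ext (Prod.ext rfl (hker b hz')), fun a => by
      obtain ⟨b, hb⟩ := hsurj a; exact ⟨⟨_, hb⟩, rfl⟩⟩
  let e₂ : W ≃ₗ[k] V' := LinearEquiv.ofBijective π' ⟨(injective_iff_map_eq_zero π').2 fun z hz => by
      obtain ⟨⟨a, b⟩, hz'⟩ := z
      change b = 0 at hz
      subst hz
      exact Subtype.ext (Prod.ext (hker' a hz') rfl), fun b => by
      obtain ⟨a, ha⟩ := hsurj' b; exact ⟨⟨_, ha⟩, rfl⟩⟩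
  refine ⟨e₁.symm.trans e₂, fun x z => ?_⟩
  obtain ⟨y, rfl⟩ := e₁.surjective z
  have h1 : e₁.symm (ρ x (e₁ y)) = ⟨σ x y, hinv x _ y.2⟩ := by
    rw [LinearEquiv.symm_apply_eq]; rfl
  rw [LinearEquiv.trans_apply, LinearEquiv.trans_apply, h1, LinearEquiv.symm_apply_apply]
  rfl

end Cfsg.Agent.Richen
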