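import Cfsg.Agent.Lib.Richen.ChevKWord
import Cfsg.Agent.Lib.Richen.ChevWeights

/-!
# Existence of the simple modules with a given weight

The weight vectors are functions on the group, constant on the double cosets of `U`, supported on the
cosets of one parabolic piece of the monomial subgroup; the simple module is a quotient of their span.
-/

set_option autoImplicit false
set_option linter.style.haveILetI false
set_option linter.unusedSectionVars false

open scoped Classical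

namespace Cfsg.Agent.Richen

open Cfsg.Lie Cfsg.Agent.Chev Cfsg.Agent.Chev.Tab

universe v

variable {T : Tab} {F : Type v} [Field F]

theorem eW_append (g : T.Good) (A B : List ℕ) : eW g F (A ++ B) = eW g F A * eW g F B := by
  simp [eW]

/-- The permutation of the fundamental roots induced by a longest element. -/
structure Opp (T : Tab) (L₀ : List ℕ) (σ : ℕ → ℕ) : Prop where
  wd : T.Wd L₀
  lt : ∀ i < T.l, σ i < T.l
  map : ∀ i < T.l, T.rw' L₀ (T.smp (σ i)) = T.neg (T.smp i)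

theorem exists_Opp (g : T.Good) : ∃ L₀ σ, Opp T L₀ σ := by
  obtain ⟨L₀, hL₀, h₀, -⟩ := exists_longest g
  choose σ hσ using fun i : Fin T.l => exists_opp g hL₀ h₀ i.2
  refine ⟨L₀, fun i => if h : i < T.l then σ ⟨i, h⟩ else 0, hL₀, fun i hi => ?_, fun i hi => ?_⟩
  · simp only [hi, dif_pos]; exact (hσ ⟨i, hi⟩).1
  · simp only [hi, dif_pos]; exact (hσ ⟨i, hi⟩).2

theorem Opp.inj (g : T.Good) {L₀ : List ℕ} {σ : ℕ → ℕ} (o : Opp T L₀ σ) {i i' : ℕ} (hi : i < T.l)
    (hi' : i' < T.l) (e : σ i = σ i') : i = i' := by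
  have h1 := o.map i hi
  rw [e, o.map i' hi'] at h1
  have h2 := congrArg T.neg h1
  rw [Tab.neg_neg (g.smp_lt hi'), Tab.neg_neg (g.smp_lt hi)] at h2
  by_contra hne
  have h3 := c_smp g hi' hi
  rw [h2, c_smp g hi hi, if_pos rfl, if_neg hne] at h3
  exact one_ne_zero h3

/-- Conjugation of the fundamental elements by the longest element. -/
theorem Opp.conj (g : T.Good) {L₀ : List ℕ} {σ : ℕ → ℕ} (o : Opp T L₀ σ) {i : ℕ} (hi : i < T.l) :
    ∃ ε : Fˣ, ∀ u : Fˣ, eW g F L₀ * (eH g F (σ i) u * eN g F (σ i)) * (eW g F L₀)⁻¹ =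
      eH g F i (-(ε * u))⁻¹ * eN g F i := by
  obtain ⟨ε, hε, hconj⟩ := nWd_conj (F := F) g o.wd (g.smp_lt (o.lt i hi))
  have hx : ∀ t : F, eW g F L₀ * eX g F (σ i) t * (eW g F L₀)⁻¹ = eY g F i ((ε : F) * t) := fun t =>
    Subtype.ext (by
      simp only [Subgroup.coe_mul, Subgroup.coe_inv, eW_coe, eX_coe, eY_coe, (hconj t).1, o.map i hi])
  have hy : ∀ t : F, eW g F L₀ * eY g F (σ i) t * (eW g F L₀)⁻¹ = eX g F i ((ε : F) * t) := fun t =>
    Subtype.ext (by
      simp only [Subgroup.coe_mul, Subgroup.coe_inv, eW_coe, eX_coe, eY_coe, (hconj t).2, o.map i hi,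
        Tab.neg_neg (g.smp_lt hi)])
  have hN : ∀ {j : ℕ}, j < T.l → ∀ u : Fˣ,
      eH g F j u * eN g F j = eX g F j (u : F) * eY g F j (-(u : F)⁻¹) * eX g F j (u : F) := by
    intro j hj u
    rw [eY_eq g hj u, ← mul_assoc (eX g F j (u : F)), ← mul_assoc (eX g F j (u : F)), eX_add,
      add_neg_cancel, eX_zero, one_mul, mul_assoc, eX_add, neg_add_cancel, eX_zero, mul_one]
  refine ⟨ε, fun u => ?_⟩
  have hε' : (ε : F) * ε = 1 := by rw [← Units.val_mul, hε, Units.val_one]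
  set v : Fˣ := -(ε * u) with hv
  have h1 : eH g F i v⁻¹ * eN g F i =
      eN g F i * (eH g F i v * eN g F i) * (eN g F i)⁻¹ := by
    rw [← mul_assoc, mul_inv_cancel_right, eN_H g hi]
  have h2 : eN g F i * (eX g F i (v : F) * eY g F i (-(v : F)⁻¹) * eX g F i (v : F)) *
      (eN g F i)⁻¹ = eY g F i (-(v : F)) * eX g F i ((v : F)⁻¹) * eY g F i (-(v : F)) := by
    have hX : ∀ t : F, eN g F i * eX g F i t * (eN g F i)⁻¹ = eY g F i (-t) := fun t => by
      rw [eN_X g hi, mul_inv_cancel_right]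
    have hY : ∀ t : F, eN g F i * eY g F i t * (eN g F i)⁻¹ = eX g F i (-t) := fun t => by
      rw [eN_Y g hi, mul_inv_cancel_right]
    have e := hY (-(v : F)⁻¹)
    rw [_root_.neg_neg] at e
    rw [← hX (v : F), ← e]
    group
  rw [h1, hN hi, h2, hN (o.lt i hi)]
  have e1 : -(v : F) = (ε : F) * u := by simp [hv]
  have e2 : (v : F)⁻¹ = (ε : F) * (-(u : F)⁻¹) := by
    rw [hv, Units.val_neg, Units.val_mul, inv_neg, mul_inv, mul_neg,
      inv_eq_of_mul_eq_one_left hε']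
  rw [e1, e2, ← hx, ← hy]
  group

theorem Opp.conj_torus (g : T.Good) {L₀ : List ℕ} {σ : ℕ → ℕ} (o : Opp T L₀ σ) {i : ℕ}
    (hi : i < T.l) (u : Fˣ) :
    eW g F L₀ * eH g F (σ i) u * (eW g F L₀)⁻¹ = eH g F i u⁻¹ := by
  obtain ⟨ε, h⟩ := o.conj (F := F) g hi
  have e : eW g F L₀ * eH g F (σ i) u * (eW g F L₀)⁻¹ =
      (eW g F L₀ * (eH g F (σ i) u * eN g F (σ i)) * (eW g F L₀)⁻¹) *
        (eW g F L₀ * (eH g F (σ i) 1 * eN g F (σ i)) * (eW g F L₀)⁻¹)⁻¹ := by
    rw [eH_one]; group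
  rw [e, h, h, mul_inv_rev, mul_assoc, mul_inv_cancel_left, ← eq_mul_inv_iff_mul_eq, inv_inv,
    ← eH_mul]
  congr 1
  simp

theorem Opp.inv_N (g : T.Good) {L₀ : List ℕ} {σ : ℕ → ℕ} (o : Opp T L₀ σ) {i : ℕ} (hi : i < T.l) :
    ∃ ε : Fˣ, (eN g F i)⁻¹ * eW g F L₀ = eW g F L₀ * (eH g F (σ i) ε * eN g F (σ i)) := by
  obtain ⟨ε, h⟩ := o.conj (F := F) g hi
  refine ⟨ε⁻¹, ?_⟩
  have h' := h ε⁻¹
  rw [mul_inv_cancel, inv_neg, inv_one, ← eN_inv g hi] at h'
  rw [← h', inv_mul_cancel_right]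

variable {k : Type v} [Field k] {L₀ : List ℕ} {σ : ℕ → ℕ} {K : Set ℕ} {ψ : ℕ → Fˣ →* k}

/-- the extension of characters to the parameters of the torus -/
noncomputable def chiT (T : Tab) (ψ : ℕ → Fˣ →* k) : (ℕ → Fˣ) →* k where
  toFun c := ∏ j ∈ Finset.range T.l, ψ j (c j)
  map_one' := Finset.prod_eq_one fun j _ => map_one (ψ j)
  map_mul' a b := by rw [← Finset.prod_mul_distrib]; simp

theorem chiT_single {j : ℕ} (hj : j < T.l) (u : Fˣ) : chiT T ψ (Pi.mulSingle j u) = ψ j u := by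
  show ∏ m ∈ Finset.range T.l, ψ m ((Pi.mulSingle j u : ℕ → Fˣ) m) = ψ j u
  rw [Finset.prod_eq_single_of_mem j (Finset.mem_range.2 hj)
    (fun m _ hm => by rw [Pi.mulSingle_eq_of_ne hm, map_one]), Pi.mulSingle_eq_same]

theorem chiT_supp (hK : ∀ j ∈ K, ψ j = 1) {e : ℕ → Fˣ} (he : KSupp K e) : chiT T ψ e = 1 := by
  show ∏ j ∈ Finset.range T.l, ψ j (e j) = 1
  exact Finset.prod_eq_one fun j _ => by
    by_cases hj : j ∈ K
    · rw [hK j hj]; rfl
    · rw [he j hj, map_one]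

variable (g : T.GoodA)

/-- membership in the support -/
def InSupp (L₀ : List ℕ) (K : Set ℕ) (m : ↥(T.D.group F)) : Prop :=
  ∃ (L : List ℕ) (c : ℕ → Fˣ), KW T K L ∧
    m = eW g.toGood F L₀ * eW g.toGood F L * eT g.toGood F c

/-- the weight function on monomial elements -/
noncomputable def eta' (L₀ : List ℕ) (K : Set ℕ) (ψ : ℕ → Fˣ →* k) (m : ↥(T.D.group F)) : k :=
  if h : InSupp g L₀ K m then chiT T ψ h.choose_spec.choose else 0

variable (hinj : ∀ c d : ℕ → Fˣ, tor T F c = tor T F d → ∀ j < T.l, c j = d j)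
variable (hK : ∀ j ∈ K, ψ j = 1)
include hinj hK

theorem eta_eq {L : List ℕ} (hL : KW T K L) (c : ℕ → Fˣ) :
    eta' g L₀ K ψ (eW g.toGood F L₀ * eW g.toGood F L * eT g.toGood F c) = chiT T ψ c := by
  have h : InSupp g L₀ K (eW g.toGood F L₀ * eW g.toGood F L * eT g.toGood F c) := ⟨L, c, hL, rfl⟩
  rw [eta', dif_pos h]
  obtain ⟨hL', e⟩ := h.choose_spec.choose_spec
  have e' := congrArg (Subtype.val)
    (mul_left_cancel (((mul_assoc _ _ _).symm.trans e).trans (mul_assoc _ _ _)))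
  simp only [Subgroup.coe_mul, eW_coe, eT_coe] at e'
  obtain ⟨d, hd, hde⟩ := kword_unique (F := F) g.toGood hL hL' e'
  have : chiT T ψ h.choose_spec.choose = chiT T ψ (c * d) := by
    show ∏ j ∈ Finset.range T.l, ψ j (_ : Fˣ) = ∏ j ∈ Finset.range T.l, ψ j ((c * d) j)
    exact Finset.prod_congr rfl fun j hj => by rw [hinj _ _ hde j (Finset.mem_range.1 hj)]
  rw [this, map_mul, chiT_supp hK hd, mul_one]

theorem kword_move {L : List ℕ} (hL : KW T K L) (d c : ℕ → Fˣ) :
    ∃ c' : ℕ → Fˣ, eT g.toGood F d * eW g.toGood F L * eT g.toGood F c =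
      eW g.toGood F L * eT g.toGood F c' ∧ chiT T ψ c' = chiT T ψ d * chiT T ψ c := by
  obtain ⟨e, he, hee⟩ := kword_tor (F := F) g.toGood hL d
  refine ⟨d * e * c, ?_, by rw [map_mul, map_mul, chiT_supp hK he, mul_one]⟩
  rw [map_mul (eT g.toGood F) (d * e) c, ← mul_assoc]
  congr 1
  exact Subtype.ext (by simpa using hee)

theorem eta_eH (o : Opp T L₀ σ) {i : ℕ} (hi : i < T.l) (u : Fˣ) (m : ↥(T.D.group F)) :
    eta' g L₀ K ψ (eH g.toGood F i u * m) = ψ (σ i) u⁻¹ * eta' g L₀ K ψ m := by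
  have hg := g.toGood
  have key : ∀ (v : Fˣ) (m : ↥(T.D.group F)), InSupp g L₀ K m →
      InSupp g L₀ K (eH hg F i v * m) ∧
      eta' g L₀ K ψ (eH hg F i v * m) = ψ (σ i) v⁻¹ * eta' g L₀ K ψ m := by
    rintro v _ ⟨L, c, hL, rfl⟩
    obtain ⟨c', he, hc⟩ := kword_move g hinj hK hL (Pi.mulSingle (σ i) v⁻¹) c
    have e : eH hg F i v * (eW hg F L₀ * eW hg F L * eT hg F c) =
        eW hg F L₀ * eW hg F L * eT hg F c' := by
      have h1 := o.conj_torus (F := F) hg hi v⁻¹
      rw [inv_inv] at h1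
      rw [← h1, mul_assoc (eW hg F L₀) (eW hg F L) (eT hg F c'), ← he]
      show _ = eW hg F L₀ * (eH hg F (σ i) v⁻¹ * eW hg F L * eT hg F c)
      group
    rw [e]
    refine ⟨⟨L, c', hL, rfl⟩, ?_⟩
    rw [eta_eq g hinj hK hL, eta_eq g hinj hK hL, hc, chiT_single (o.lt i hi)]
  by_cases h : InSupp g L₀ K m
  · exact (key u m h).2
  rw [show eta' g L₀ K ψ m = 0 from dif_neg h, mul_zero]
  refine dif_neg fun h' => h ?_
  have := (key u⁻¹ _ h').1
  rwa [← mul_assoc, ← eH_mul, inv_mul_cancel, eH_one, one_mul] at this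

theorem eta_eN (o : Opp T L₀ σ) {i : ℕ} (hi : i < T.l) (hiK : σ i ∈ K) (m : ↥(T.D.group F)) :
    eta' g L₀ K ψ ((eN g.toGood F i)⁻¹ * m) = eta' g L₀ K ψ m := by
  have hg := g.toGood
  obtain ⟨ε, hε⟩ := o.inv_N (F := F) hg hi
  have key : ∀ m : ↥(T.D.group F), InSupp g L₀ K m →
      eta' g L₀ K ψ ((eN hg F i)⁻¹ * m) = eta' g L₀ K ψ m := by
    rintro _ ⟨L, c, hL, rfl⟩
    have hL' : KW T K (σ i :: L) := KW.cons_iff.2 ⟨⟨o.lt i hi, hiK⟩, hL⟩
    obtain ⟨c', he, hc⟩ := kword_move g hinj hK hL' (Pi.mulSingle (σ i) ε) c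
    have e : (eN hg F i)⁻¹ * (eW hg F L₀ * eW hg F L * eT hg F c) =
        eW hg F L₀ * eW hg F (σ i :: L) * eT hg F c' := by
      rw [mul_assoc (eW hg F L₀) (eW hg F (σ i :: L)), ← he, eW_cons, ← mul_assoc, ← mul_assoc, hε]
      show _ = eW hg F L₀ * (eH hg F (σ i) ε * (eN hg F (σ i) * eW hg F L) * eT hg F c)
      group
    rw [e, eta_eq g hinj hK hL', eta_eq g hinj hK hL, hc, chiT_single (o.lt i hi), hK _ hiK]
    simp
  by_cases h : InSupp g L₀ K m
  · exact key m h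
  by_cases h' : InSupp g L₀ K ((eN hg F i)⁻¹ * m)
  · have h1 := key _ h'
    rw [← mul_assoc, ← mul_inv_rev, eN_sq hg hi, show (eH hg F i (-1 : Fˣ))⁻¹ = eH hg F i (-1) from
      inv_eq_of_mul_eq_one_right (by rw [← eH_mul, neg_one_mul, _root_.neg_neg, eH_one]),
      eta_eH g hinj hK o hi, hK _ hiK] at h1
    rw [← h1]
    simp
  · rw [eta', dif_neg h', eta', dif_neg h]

omit hinj hK in
/-- In the support, the root of the reflection decides the position of `σ i`. -/
theorem supp_neg (o : Opp T L₀ σ) {i : ℕ} (hi : i < T.l) (hiK : σ i ∉ K) {M : List ℕ}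
    (hM : T.Wd M) (c : ℕ → Fˣ) (h : InSupp g L₀ K (eT g.toGood F c * eW g.toGood F M)) :
    T.rw' M.reverse (T.smp i) < T.N := by
  have hg := g.toGood
  obtain ⟨L, d, hL, e⟩ := h
  have hw : T.Wd (L₀ ++ L) := Wd.append_iff.2 ⟨o.wd, hL.wd⟩
  obtain ⟨d', hd'⟩ := torus_pass hg (nWd_mem_wSub (F := F) hg hw) d
  have e' : tor T F c * nWd hg F M = tor T F d' * nWd hg F (L₀ ++ L) := by
    have := congrArg Subtype.val e
    simp only [Subgroup.coe_mul, eW_coe, eT_coe] at this
    rw [this, ← nWd_append, hd']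
  have hj := g.toGood.smp_lt (o.lt i hi)
  set r := T.neg (T.rw' L.reverse (T.smp (σ i))) with hr
  have hrn : r < T.n := neg_lt (rw'_lt hg hL.wd.reverse hj)
  have h1 : T.rw' (L₀ ++ L) r = T.smp i := by
    rw [hr, rw'_append, rw'_neg hg hL.wd (rw'_lt hg hL.wd.reverse hj), rw'_rev' hg hL.wd hj,
      rw'_neg hg o.wd hj, o.map i hi, Tab.neg_neg (hg.smp_lt hi)]
  rw [← rw'_of_nWd_eq hg hM hw e' hrn] at h1
  rw [← h1, rw'_rev hg hM hrn, hr, neg_lt_N_iff (rw'_lt hg hL.wd.reverse hj)]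
  exact (kword_pos hg hL.reverse (o.lt i hi) hiK).1

omit hinj hK
variable [Fintype F] (p : ℕ) [Fact p.Prime] [CharP F p]

include p in
theorem exists_norm (x : ↥(T.D.group F)) :
    ∃ n : ↥(T.D.group F), (n : GL T.D.Idx F) ∈ T.D.monomialSubgroup F ∧
      ∃ u ∈ gU g.toGood F, ∃ u' ∈ gU g.toGood F, x = u * n * u' := by
  have hg := g.toGood
  obtain ⟨b, hb, n, hn, L, hL, -, u, hu, e⟩ := bruhat_exists g x.2
  obtain ⟨u₁, hu₁, c, rfl⟩ := (mem_borel_iff hg).1 hb
  have hpos : genS hg F (Set.Ico T.N T.n) ≤ T.D.group F :=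
    genS_le hg (fun r _ s => xg_mem_group hg r s)
  refine ⟨eT hg F c * ⟨n, monomial_le_group hg hn⟩, ?_, ⟨u₁, hpos hu₁⟩, hu₁,
    ⟨u, hpos (uMinus_le_pos hg L hu)⟩, uMinus_le_pos hg L hu, Subtype.ext ?_⟩
  · rw [Subgroup.coe_mul, eT_coe]
    exact mul_mem (torus_le_monomial hg c) hn
  · simp only [Subgroup.coe_mul, eT_coe]
    rw [e]
    group

/-- the weight function -/
noncomputable def phi (L₀ : List ℕ) (K : Set ℕ) (ψ : ℕ → Fˣ →* k) (x : ↥(T.D.group F)) : k :=
  eta' g L₀ K ψ (exists_norm g p x).choose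

theorem phi_eq {m u u' : ↥(T.D.group F)} (hm : (m : GL T.D.Idx F) ∈ T.D.monomialSubgroup F)
    (hu : u ∈ gU g.toGood F) (hu' : u' ∈ gU g.toGood F) :
    phi g p L₀ K ψ (u * m * u') = eta' g L₀ K ψ m := by
  obtain ⟨hn, v, hv, v', hv', e⟩ := (exists_norm g p (u * m * u')).choose_spec
  rw [phi]
  congr 1
  exact monomial_unique g p hn hm (mul_mem (inv_mem hu) hv) (mul_mem hv' (inv_mem hu')) (by
    rw [show u⁻¹ * v * (exists_norm g p (u * m * u')).choose * (v' * u'⁻¹) =
      u⁻¹ * (v * (exists_norm g p (u * m * u')).choose * v') * u'⁻¹ by group, ← e]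
    group)

theorem phi_left {u : ↥(T.D.group F)} (hu : u ∈ gU g.toGood F) (x : ↥(T.D.group F)) :
    phi g p L₀ K ψ (u * x) = phi g p L₀ K ψ x := by
  obtain ⟨n, hn, v, hv, v', hv', rfl⟩ := exists_norm g p x
  rw [phi_eq g p hn hv hv', show u * (v * n * v') = u * v * n * v' by group,
    phi_eq g p hn (mul_mem hu hv) hv']

theorem phi_right {u : ↥(T.D.group F)} (hu : u ∈ gU g.toGood F) (x : ↥(T.D.group F)) :
    phi g p L₀ K ψ (x * u) = phi g p L₀ K ψ x := by
  obtain ⟨n, hn, v, hv, v', hv', rfl⟩ := exists_norm g p x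
  rw [phi_eq g p hn hv hv', mul_assoc (v * n), phi_eq g p hn hv (mul_mem hv' hu)]

/-- the left regular representation on functions -/
def regFun (k : Type v) [Field k] (G : Type v) [Group G] : Representation k G (G → k) where
  toFun x :=
    { toFun := fun f y => f (x⁻¹ * y)
      map_add' := fun _ _ => rfl
      map_smul' := fun _ _ => rfl }
  map_one' := LinearMap.ext fun f => funext fun y => by simp
  map_mul' a b := LinearMap.ext fun f => funext fun y => by simp [mul_assoc]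

theorem regFun_apply {G : Type v} [Group G] (x : G) (f : G → k) (y : G) :
    regFun k G x f y = f (x⁻¹ * y) := rfl

variable [CharP k p]

include hinj hK in
/-- The weight function is an eigenvector. -/
theorem phi_eig (o : Opp T L₀ σ) :
    Eig g (regFun k ↥(T.D.group F)) (phi g p L₀ K ψ) (fun i => ψ (σ i))
      (fun i => if σ i ∈ K then 0 else ∑ u : Fˣ, ψ (σ i) u) := by
  have hg := g.toGood
  have hfix : phi g p L₀ K ψ ∈ fixU g (regFun k ↥(T.D.group F)) := fun u hu =>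
    funext fun y => phi_left g p (inv_mem hu) y
  have htorm : ∀ {i : ℕ} (u : Fˣ) {n : ↥(T.D.group F)},
      (n : GL T.D.Idx F) ∈ T.D.monomialSubgroup F →
      ((eH hg F i u * n : ↥(T.D.group F)) : GL T.D.Idx F) ∈ T.D.monomialSubgroup F := by
    intro i u n hn
    rw [Subgroup.coe_mul, eH_coe, hS_eq_tor]
    exact mul_mem (torus_le_monomial hg _) hn
  have hmon : ∀ {M : List ℕ}, T.Wd M → ∀ c : ℕ → Fˣ,
      ((eT hg F c * eW hg F M : ↥(T.D.group F)) : GL T.D.Idx F) ∈ T.D.monomialSubgroup F :=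
    fun hM c => eW_mem_monomial hg hM c
  refine ⟨fun e => ?_, hfix, fun i hi u => funext fun y => ?_, fun i hi => funext fun y => ?_⟩
  · have h1 : eta' g L₀ K ψ (eW hg F L₀ * eW hg F [] * eT hg F 1) = 1 := by
      rw [eta_eq g hinj hK KW.nil, map_one]
    rw [← phi_eq g p (u := 1) (u' := 1) (by
      simp only [Subgroup.coe_mul, eW_coe, nWd_nil, mul_one, map_one]
      exact (mem_monomial_iff hg).2 ⟨L₀, o.wd, 1, by simp⟩) (one_mem _) (one_mem _), e] at h1
    exact zero_ne_one h1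
  · obtain ⟨n, hn, v, hv, v', hv', rfl⟩ := exists_norm g p y
    show phi g p L₀ K ψ ((eH hg F i u)⁻¹ * (v * n * v')) = ψ (σ i) u • phi g p L₀ K ψ (v * n * v')
    have hh : (eH hg F i u)⁻¹ = eH hg F i u⁻¹ :=
      inv_eq_of_mul_eq_one_right (by rw [← eH_mul, mul_inv_cancel, eH_one])
    have hv1 : eH hg F i u⁻¹ * v * (eH hg F i u⁻¹)⁻¹ ∈ gU hg F := eT_gU hg _ hv
    rw [phi_eq g p hn hv hv', hh, show eH hg F i u⁻¹ * (v * n * v') =
      (eH hg F i u⁻¹ * v * (eH hg F i u⁻¹)⁻¹) * (eH hg F i u⁻¹ * n) * v' by group,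
      phi_eq g p (htorm _ hn) hv1 hv', eta_eH g hinj hK o hi, inv_inv, smul_eq_mul]
  · obtain ⟨n, hn, v, hv, v', hv', rfl⟩ := exists_norm g p y
    set R := top g (regFun k ↥(T.D.group F)) i (phi g p L₀ K ψ) with hR
    have hsum : ∀ z, R z = ∑ a : F, phi g p L₀ K ψ ((eN hg F i)⁻¹ * (eX hg F i a * z)) := by
      intro z
      rw [hR, top_apply, Finset.sum_apply]
      refine Fintype.sum_equiv (Equiv.neg F) _ _ fun a => ?_
      simp only [Equiv.neg_apply, regFun_apply, mul_inv_rev, eX_inv, mul_assoc]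
    have hRl : R (v * n * v') = R n := by
      have h1 := congrFun (top_mem_fixU g (regFun k ↥(T.D.group F)) hi hfix v⁻¹ (inv_mem hv)) (n * v')
      rw [regFun_apply, inv_inv, ← mul_assoc, ← hR] at h1
      rw [h1, hsum, hsum]
      refine Finset.sum_congr rfl fun a _ => ?_
      simp only [← mul_assoc]
      exact phi_right g p hv' _
    rw [Pi.smul_apply, smul_eq_mul, phi_eq g p hn hv hv', hRl, hsum]
    obtain ⟨M, hM, c, hnM⟩ := (mem_monomial_iff hg).1 hn
    obtain rfl : n = eT hg F c * eW hg F M := Subtype.ext (by simpa using hnM)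
    set m := eT hg F c * eW hg F M with hm
    obtain ⟨d, hd⟩ := torus_pass hg (nG_mem_wSub (F := F) hg hi) c
    have hiM : T.Wd (i :: M) := Wd.cons_iff.2 ⟨hi, hM⟩
    have hnm : (eN hg F i)⁻¹ * m = eT hg F (Pi.mulSingle i (-1) * d) * eW hg F (i :: M) := by
      have hd' : eN hg F i * eT hg F c = eT hg F d * eN hg F i := Subtype.ext hd
      rw [eN_inv hg hi, hm, map_mul, eW_cons, mul_assoc, ← mul_assoc (eN hg F i), hd']
      show eH hg F i (-1) * _ = eH hg F i (-1) * _ * _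
      group
    have hnmN : (((eN hg F i)⁻¹ * m : ↥(T.D.group F)) : GL T.D.Idx F) ∈ T.D.monomialSubgroup F :=
      hnm ▸ hmon hiM _
    obtain ⟨q, -, hq⟩ := FiniteField.card F p
    by_cases hpos : T.N ≤ T.rw' M.reverse (T.smp i)
    · have hterm : ∀ a : F, phi g p L₀ K ψ ((eN hg F i)⁻¹ * (eX hg F i a * m)) =
          eta' g L₀ K ψ ((eN hg F i)⁻¹ * m) := by
        intro a
        rw [show (eN hg F i)⁻¹ * (eX hg F i a * m) =
          1 * ((eN hg F i)⁻¹ * m) * (m⁻¹ * eX hg F i a * m) by group]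
        exact phi_eq g p hnmN (one_mem _) (eX_conj_mem hg hM c hi hpos a)
      rw [Finset.sum_congr rfl fun a _ => hterm a, Finset.sum_const, Finset.card_univ,
        ← Nat.cast_smul_eq_nsmul k, hq, Nat.cast_pow, CharP.cast_eq_zero k p, zero_pow q.pos.ne',
        zero_smul]
      by_cases hiK : σ i ∈ K
      · rw [if_pos hiK, zero_mul]
      · have : ¬InSupp g L₀ K m := fun h => absurd hpos (not_le.2 (supp_neg g o hi hiK hM c h))
        rw [eta', dif_neg this, mul_zero]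
    · have hY : ∀ t : F, m⁻¹ * eY hg F i t * m ∈ gU hg F := by
        intro t
        have hpos' : T.N ≤ T.rw' (i :: M).reverse (T.smp i) := by
          rw [List.reverse_cons, rw'_append, rw'_cons, rw'_nil, hg.ref_smp hi,
            rw'_neg hg hM.reverse (hg.smp_lt hi), N_le_neg_iff (rw'_lt hg hM.reverse (hg.smp_lt hi))]
          exact not_le.1 hpos
        have h1 := eX_conj_mem hg hiM (Pi.mulSingle i (-1) * d) hi hpos' (-t)
        rw [← hnm] at h1
        convert h1 using 1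
        have e : eY hg F i t = eN hg F i * eX hg F i (-t) * (eN hg F i)⁻¹ := by
          rw [eN_X hg hi, _root_.neg_neg, mul_inv_cancel_right]
        rw [e]
        group
      have hterm : ∀ u : Fˣ, phi g p L₀ K ψ ((eN hg F i)⁻¹ * (eX hg F i ((u⁻¹ : Fˣ) : F) * m)) =
          ψ (σ i) u⁻¹ * eta' g L₀ K ψ m := by
        intro u
        have e : (eN hg F i)⁻¹ * eX hg F i ((u⁻¹ : Fˣ) : F) =
            eX hg F i (-(u : F)) * eH hg F i u * (eN hg F i * eX hg F i (-(u : F))) *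
              (eN hg F i)⁻¹ := by
          rw [← mul_assoc, mul_assoc (eX hg F i (-(u : F))) (eH hg F i u), ← eY_eq hg hi u, eq_mul_inv_iff_mul_eq, mul_assoc, inv_mul_eq_iff_eq_mul, eN_Y hg hi,
            _root_.neg_neg, Units.val_inv_eq_inv_val]
        rw [show (eN hg F i)⁻¹ * (eX hg F i ((u⁻¹ : Fˣ) : F) * m) =
          (eN hg F i)⁻¹ * eX hg F i ((u⁻¹ : Fˣ) : F) * m by group, e, eN_X hg hi, _root_.neg_neg,
          show eX hg F i (-(u : F)) * eH hg F i u * (eY hg F i (u : F) * eN hg F i) *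
              (eN hg F i)⁻¹ * m =
            eX hg F i (-(u : F)) * (eH hg F i u * m) * (m⁻¹ * eY hg F i (u : F) * m) by group,
          phi_eq g p (htorm u hn) (eX_mem_gU hg hi _) (hY _), eta_eH g hinj hK o hi]
      rw [← Finset.add_sum_erase _ _ (Finset.mem_univ (0 : F)), eX_zero, one_mul,
        show phi g p L₀ K ψ ((eN hg F i)⁻¹ * m) = eta' g L₀ K ψ ((eN hg F i)⁻¹ * m) by
          rw [← phi_eq g p hnmN (one_mem _) (one_mem _), one_mul, mul_one]]
      have hsum' : ∑ a ∈ Finset.univ.erase (0 : F),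
          phi g p L₀ K ψ ((eN hg F i)⁻¹ * (eX hg F i a * m)) =
            (∑ u : Fˣ, ψ (σ i) u) * eta' g L₀ K ψ m := by
        rw [Finset.sum_mul]
        refine Finset.sum_bij (fun a ha => Units.mk0 a (Finset.ne_of_mem_erase ha))
          (fun _ _ => Finset.mem_univ _)
          (fun a _ b _ h => congrArg Units.val h)
          (fun u _ => ⟨(u : F), Finset.mem_erase.2 ⟨u.ne_zero, Finset.mem_univ _⟩, Units.ext rfl⟩)
          fun a ha => ?_
        have := hterm (Units.mk0 a (Finset.ne_of_mem_erase ha))⁻¹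
        rwa [inv_inv] at this
      rw [hsum']
      by_cases hiK : σ i ∈ K
      · have hc : (∑ u : Fˣ, ψ (σ i) u) = -1 := by
          rw [hK _ hiK]
          simp only [MonoidHom.one_apply, Finset.sum_const, Finset.card_univ, nsmul_one,
            Fintype.card_units]
          rw [Nat.cast_sub (Fintype.card_pos), hq, Nat.cast_pow, CharP.cast_eq_zero k p,
            zero_pow q.pos.ne', Nat.cast_one, zero_sub]
        rw [if_pos hiK, eta_eN g hinj hK o hi hiK, hc]
        ring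
      · have : ¬InSupp g L₀ K ((eN hg F i)⁻¹ * m) := fun h => by
          rw [hnm] at h
          have h1 := supp_neg g o hi hiK hiM _ h
          rw [List.reverse_cons, rw'_append, rw'_cons, rw'_nil, hg.ref_smp hi,
            rw'_neg hg hM.reverse (hg.smp_lt hi),
            neg_lt_N_iff (rw'_lt hg hM.reverse (hg.smp_lt hi))] at h1
          exact hpos h1
        rw [if_neg hiK, eta', dif_neg this, zero_add]

omit hinj hK

/-- An equivariant map sends eigenvectors to eigenvectors. -/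
theorem Eig.map {V V' : Type v} [AddCommGroup V] [Module k V] [AddCommGroup V'] [Module k V']
    {ρ : Representation k ↥(T.D.group F) V} {ρ' : Representation k ↥(T.D.group F) V'}
    {w : V} {χ : ℕ → Fˣ →* k} {ε : ℕ → k} (h : Eig g ρ w χ ε) (f : V →ₗ[k] V')
    (hf : ∀ x z, f (ρ x z) = ρ' x (f z)) (hne : f w ≠ 0) : Eig g ρ' (f w) χ ε :=
  ⟨hne, fun u hu => by rw [← hf, h.fix u hu],
    fun i hi u => by rw [← hf, h.tor i hi u, map_smul],
    fun i hi => by
      rw [top_apply, Finset.sum_congr rfl fun a _ => (hf _ w).symm, ← map_sum, ← top_apply g ρ i w,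
        h.top i hi, map_smul]⟩

/-- An eigenvector in a finite-dimensional representation gives a simple one of the same weight. -/
theorem exists_simple_of_eig {V : Type v} [AddCommGroup V] [Module k V] [FiniteDimensional k V]
    {ρ : Representation k ↥(T.D.group F) V} {w : V} {χ : ℕ → Fˣ →* k} {ε : ℕ → k}
    (h : Eig g ρ w χ ε) :
    ∃ (n : ℕ) (τ : Representation k ↥(T.D.group F) (Fin n → k)) (z : Fin n → k),
      IsSimp τ ∧ Eig g τ z χ ε := by
  set W := Submodule.span k (Set.range fun x => ρ x w) with hW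
  have hWinv : ∀ x, ∀ z ∈ W, ρ x z ∈ W := by
    intro x z hz
    have hle : W ≤ W.comap (ρ x) := Submodule.span_le.2 (by
      rintro _ ⟨y, rfl⟩
      exact Submodule.subset_span ⟨x * y, by simp⟩)
    exact hle hz
  have hwW : w ∈ W := Submodule.subset_span ⟨1, by simp⟩
  let ρW : Representation k ↥(T.D.group F) W :=
    { toFun := fun x => (ρ x).restrict (hWinv x)
      map_one' := LinearMap.ext fun z => Subtype.ext (by simp)
      map_mul' := fun a b => LinearMap.ext fun z => Subtype.ext (by simp) }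
  set w' : W := ⟨w, hwW⟩ with hw'
  obtain ⟨U, ⟨hUinv, hUw⟩, hUmax⟩ := (wellFounded_gt (α := Submodule k W)).has_min
    {U : Submodule k W | (∀ x, ∀ z ∈ U, ρW x z ∈ U) ∧ w' ∉ U}
    ⟨⊥, fun x z hz => by rw [Submodule.mem_bot] at hz ⊢; rw [hz, map_zero],
      fun hz => h.ne (congrArg Subtype.val ((Submodule.mem_bot k).1 hz))⟩
  let τ : Representation k ↥(T.D.group F) (W ⧸ U) :=
    { toFun := fun x => U.mapQ U (ρW x) (hUinv x)
      map_one' := Submodule.linearMap_qext _ (LinearMap.ext fun z => by simp)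
      map_mul' := fun a b => Submodule.linearMap_qext _ (LinearMap.ext fun z => by simp) }
  have hne : U.mkQ w' ≠ 0 := fun e => hUw ((Submodule.Quotient.mk_eq_zero U).1 e)
  have hE : Eig g τ (U.mkQ w') χ ε := by
    have hW' : Eig g ρW w' χ ε := by
      refine ⟨fun e => h.ne (congrArg Subtype.val e), fun u hu => Subtype.ext (h.fix u hu),
        fun i hi u => Subtype.ext (h.tor i hi u), fun i hi => Subtype.ext ?_⟩
      have := h.top i hi
      rw [top_apply] at this
      rw [top_apply, AddSubmonoidClass.coe_finsetSum]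
      exact this
    exact hW'.map g U.mkQ (fun x z => rfl) hne
  have hsimp : IsSimp τ := by
    refine ⟨⟨⟨U.mkQ w', 0, hne⟩⟩, fun X hX => ?_⟩
    have hle : U ≤ X.comap U.mkQ := fun z hz => by
      show U.mkQ z ∈ X
      rw [Submodule.mkQ_apply, (Submodule.Quotient.mk_eq_zero U).2 hz]
      exact X.zero_mem
    have hinv : ∀ x, ∀ z ∈ X.comap U.mkQ, ρW x z ∈ X.comap U.mkQ := fun x z hz => hX x _ hz
    by_cases hw : w' ∈ X.comap U.mkQ
    · right
      have htop : X.comap U.mkQ = ⊤ := by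
        rw [eq_top_iff]
        rintro ⟨z, hz⟩ -
        have hz' : z ∈ (X.comap U.mkQ).map W.subtype := by
          refine Submodule.span_le.2 ?_ hz
          rintro _ ⟨x, rfl⟩
          exact ⟨ρW x w', hinv x _ hw, rfl⟩
        obtain ⟨y, hy, e⟩ := hz'
        rwa [show y = ⟨z, hz⟩ from Subtype.ext e] at hy
      rw [← Submodule.map_comap_eq_of_surjective U.mkQ_surjective X, htop, Submodule.map_top,
        Submodule.range_mkQ]
    · left
      have hXU : X.comap U.mkQ = U := by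
        refine (hle.eq_or_lt.resolve_right fun hlt => hUmax _ ⟨hinv, hw⟩ hlt).symm
      rw [← Submodule.map_comap_eq_of_surjective U.mkQ_surjective X, hXU, Submodule.mkQ_map_self]
  refine ⟨_, toStd τ, (Module.finBasis k (W ⧸ U)).equivFun (U.mkQ w'), toStd_simp hsimp, ?_⟩
  exact hE.map g (Module.finBasis k (W ⧸ U)).equivFun.toLinearMap
    (fun x z => (toStd_apply τ x z).symm) fun e => hne
      ((LinearEquiv.map_eq_zero_iff (Module.finBasis k (W ⧸ U)).equivFun).1 e)

include hinj p in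
/-- Every weight occurs. -/
theorem exists_simple_of_weight (χ : ℕ → Fˣ →* k) (J : Set ℕ) (hJ : ∀ i ∈ J, χ i = 1) :
    ∃ (n : ℕ) (τ : Representation k ↥(T.D.group F) (Fin n → k)) (z : Fin n → k), IsSimp τ ∧
      Eig g τ z χ (fun i => if i ∈ J then 0 else ∑ u : Fˣ, χ i u) := by
  obtain ⟨L₀, σ, o⟩ := exists_Opp g.toGood
  let ψ : ℕ → Fˣ →* k := fun j => if h : ∃ i < T.l, σ i = j then χ h.choose else 1
  let K : Set ℕ := {j | ∃ i < T.l, σ i = j ∧ i ∈ J}
  have hψ : ∀ i < T.l, ψ (σ i) = χ i := by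
    intro i hi
    have h : ∃ i' < T.l, σ i' = σ i := ⟨i, hi, rfl⟩
    simp only [ψ, dif_pos h]
    rw [o.inj g.toGood h.choose_spec.1 hi h.choose_spec.2]
  have hK : ∀ j ∈ K, ψ j = 1 := by
    rintro _ ⟨i, hi, rfl, hiJ⟩
    rw [hψ i hi, hJ i hiJ]
  have hKJ : ∀ i < T.l, (σ i ∈ K ↔ i ∈ J) := fun i hi =>
    ⟨fun ⟨i', hi', e, h⟩ => o.inj g.toGood hi' hi e ▸ h, fun h => ⟨i, hi, rfl, h⟩⟩
  have h := phi_eig g hinj hK p o
  have h' : Eig g (regFun k ↥(T.D.group F)) (phi g p L₀ K ψ) χ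
      (fun i => if i ∈ J then 0 else ∑ u : Fˣ, χ i u) :=
    ⟨h.ne, h.fix, fun i hi u => by rw [h.tor i hi u, hψ i hi], fun i hi => by
      rw [h.top i hi]
      simp only [hKJ i hi, hψ i hi]⟩
  exact exists_simple_of_eig g h'

end Cfsg.Agent.Richen
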