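import Cfsg.Agent.Lib.Richen.ChevElts

/-!
# Words in a subset of the fundamental reflections

Torus parts of relations between such words are supported on the subset.
-/

set_option autoImplicit false

namespace Cfsg.Agent.Richen

open Cfsg.Lie Cfsg.Agent.Chev Cfsg.Agent.Chev.Tab

universe v

variable {T : Tab} {F : Type v} [Field F]

/-- words with letters in `K` -/
def KW (T : Tab) (K : Set ℕ) (L : List ℕ) : Prop := ∀ i ∈ L, i < T.l ∧ i ∈ K

/-- parameters supported on `K` -/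
def KSupp (K : Set ℕ) (c : ℕ → Fˣ) : Prop := ∀ j, j ∉ K → c j = 1

variable {K : Set ℕ}

theorem KW.wd {L : List ℕ} (h : KW T K L) : T.Wd L := fun i hi => (h i hi).1

theorem KW.cons_iff {i : ℕ} {L : List ℕ} : KW T K (i :: L) ↔ (i < T.l ∧ i ∈ K) ∧ KW T K L := by
  simp [KW]

theorem KW.append_iff {A B : List ℕ} : KW T K (A ++ B) ↔ KW T K A ∧ KW T K B := by
  simp [KW, or_imp, forall_and]
  tauto

theorem KW.nil : KW T K [] := by simp [KW]

theorem KW.reverse {L : List ℕ} (h : KW T K L) : KW T K L.reverse :=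
  fun i hi => h i (List.mem_reverse.1 hi)

theorem KSupp.one : KSupp K (1 : ℕ → Fˣ) := fun _ _ => rfl

theorem KSupp.mul {c d : ℕ → Fˣ} (hc : KSupp K c) (hd : KSupp K d) : KSupp K (c * d) :=
  fun j hj => by rw [Pi.mul_apply, hc j hj, hd j hj, one_mul]

theorem KSupp.inv {c : ℕ → Fˣ} (hc : KSupp K c) : KSupp K c⁻¹ :=
  fun j hj => by rw [Pi.inv_apply, hc j hj, inv_one]

theorem KSupp.single {i : ℕ} (hi : i ∈ K) (u : Fˣ) : KSupp K (Pi.mulSingle i u : ℕ → Fˣ) :=
  fun j hj => by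
    rw [Pi.mulSingle_apply, if_neg fun e => hj (by rw [e]; exact hi)]

theorem nG_tor_left (g : T.Good) {i : ℕ} (hi : i < T.l) (c : ℕ → Fˣ) :
    ∃ u : Fˣ, nG g F i * tor T F c = tor T F (c * Pi.mulSingle i u) * nG g F i := by
  refine ⟨∏ j ∈ Finset.range T.l, c j ^ (-T.A j (T.smp i)), mul_inv_eq_iff_eq_mul.1 ?_⟩
  rw [tor_apply, tor_apply, nG_dg g hi]
  refine dg_congr g fun s hs => ?_
  rw [wt_mul, wt_single g hi, wt, wt, ← Finset.prod_zpow, ← Finset.prod_mul_distrib]
  refine Finset.prod_congr rfl fun j hj => ?_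
  rw [← zpow_mul, ← _root_.zpow_add, A_ref g hi (Finset.mem_range.1 hj) hs]
  congr 1
  ring

theorem nG_tor_right (g : T.Good) {i : ℕ} (hi : i < T.l) (c : ℕ → Fˣ) :
    ∃ u : Fˣ, tor T F c * nG g F i = nG g F i * tor T F (c * Pi.mulSingle i u) := by
  obtain ⟨u, hu⟩ := nG_tor_left (F := F) g hi c
  refine ⟨u, ?_⟩
  have hsq : nG g F i * nG g F i * tor T F c = tor T F c * (nG g F i * nG g F i) := by
    rw [nG_sq g hi, hS_eq_tor, ← map_mul, ← map_mul, mul_comm]
  rw [mul_assoc, hu, ← mul_assoc, ← mul_assoc (tor T F c)] at hsq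
  exact (mul_right_cancel hsq).symm

theorem kword_tor (g : T.Good) {L : List ℕ} (hL : KW T K L) (c : ℕ → Fˣ) :
    ∃ e, KSupp K e ∧ tor T F c * nWd g F L = nWd g F L * tor T F (c * e) := by
  induction L generalizing c with
  | nil => exact ⟨1, KSupp.one, by simp⟩
  | cons k L ih =>
    obtain ⟨⟨hk, hkK⟩, hL⟩ := KW.cons_iff.1 hL
    obtain ⟨u, hu⟩ := nG_tor_right (F := F) g hk c
    obtain ⟨e, he, h⟩ := ih hL (c * Pi.mulSingle k u)
    refine ⟨Pi.mulSingle k u * e, (KSupp.single hkK u).mul he, ?_⟩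
    rw [nWd_cons, ← mul_assoc, hu, mul_assoc, h, ← mul_assoc, mul_assoc c]

/-- Deletion, keeping track of the support of the torus part. -/
theorem kdeletion (g : T.Good) {L : List ℕ} (hL : KW T K L) {i : ℕ} (hi : i < T.l)
    (h : T.rw' L (T.smp i) < T.N) :
    ∃ A j B, L = A ++ j :: B ∧
      ∃ c : ℕ → Fˣ, KSupp K c ∧ nWd g F L * nG g F i = tor T F c * nWd g F (A ++ B) := by
  induction L with
  | nil => exact absurd (g.smp_ge hi) (by simp only [rw'_nil] at h; omega)
  | cons k L ih =>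
    obtain ⟨⟨hk, hkK⟩, hL'⟩ := KW.cons_iff.1 hL
    by_cases h' : T.rw' L (T.smp i) < T.N
    · obtain ⟨A, j, B, rfl, c, hcK, hc⟩ := ih hL' h'
      obtain ⟨u, hu⟩ := nG_tor_left (F := F) g hk c
      refine ⟨k :: A, j, B, rfl, _, hcK.mul (KSupp.single hkK u), ?_⟩
      rw [nWd_cons, mul_assoc, hc, ← mul_assoc, hu, mul_assoc, ← nWd_cons, List.cons_append]
    · have hu := rw'_lt g hL'.wd (g.smp_lt hi)
      have he : T.rw' L (T.smp i) = T.smp k := by
        by_contra hne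
        have := g.ref_pos hk hu (not_lt.1 h') hne
        rw [rw'_cons] at h
        omega
      refine ⟨[], k, L, rfl, ?_⟩
      obtain ⟨ε, hε, hconj⟩ := nWd_conj (F := F) g hL'.wd (g.smp_lt hi)
      have hε' : (ε : F) * ε = 1 := by rw [← Units.val_mul, hε, Units.val_one]
      have hmove : nWd g F L * nG g F i = hS T F k ε * nG g F k * nWd g F L := by
        rw [← nE_simple g hk ε, ← mul_inv_eq_iff_eq_mul, nG,
          show ∀ a x y z : GL T.D.Idx F, a * (x * y * z) * a⁻¹ = (a * x * a⁻¹) * (a * y * a⁻¹) *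
            (a * z * a⁻¹) from fun a x y z => by group, (hconj 1).1, (hconj (-1)).2, he, mul_one]
        congr 3
        rw [mul_neg_one, neg_inj]
        exact eq_inv_of_mul_eq_one_left hε'
      rw [nWd_cons, mul_assoc, hmove, ← mul_assoc, ← mul_assoc, nG_hS g hk,
        mul_assoc (hS T F k ε⁻¹), nG_sq g hk, ← hS_mul, hS_eq_tor]
      exact ⟨_, KSupp.single hkK _, by rw [List.nil_append]⟩

/-- A word in `K` fixing the positive roots lifts to a torus element supported on `K`. -/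
theorem kword_torus_of_pos (g : T.Good) : ∀ (m : ℕ) {L : List ℕ}, L.length ≤ m → KW T K L →
    (∀ s, T.N ≤ s → s < T.n → T.N ≤ T.rw' L s) →
    ∃ c : ℕ → Fˣ, KSupp K c ∧ nWd g F L = tor T F c := by
  intro m
  induction m with
  | zero =>
    intro L hlen _ _
    obtain rfl := List.length_eq_zero_iff.1 (Nat.le_zero.1 hlen)
    exact ⟨1, KSupp.one, by simp⟩
  | succ m ih =>
    intro L hlen hL hpos
    rcases List.eq_nil_or_concat L with rfl | ⟨L', i, hLe⟩
    · exact ⟨1, KSupp.one, by simp⟩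
    rw [List.concat_eq_append] at hLe
    subst hLe
    obtain ⟨hL', hi'⟩ := KW.append_iff.1 hL
    have hi : i < T.l := (hi' i List.mem_cons_self).1
    have hneg : T.rw' L' (T.smp i) < T.N := by
      have h1 := hpos _ (g.smp_ge hi) (g.smp_lt hi)
      rw [rw'_append, rw'_cons, rw'_nil, g.ref_smp hi, rw'_neg g hL'.wd (g.smp_lt hi),
        N_le_neg_iff (rw'_lt g hL'.wd (g.smp_lt hi))] at h1
      exact h1
    obtain ⟨A, j, B, rfl, c, hcK, hc⟩ := kdeletion (F := F) g hL' hi hneg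
    obtain ⟨hA, hjB⟩ := KW.append_iff.1 hL'
    have hAB : KW T K (A ++ B) := KW.append_iff.2 ⟨hA, (KW.cons_iff.1 hjB).2⟩
    have e : nWd g F (A ++ j :: B ++ [i]) = tor T F c * nWd g F (A ++ B) := by
      rw [nWd_append, nWd_cons, nWd_nil, mul_one, hc]
    obtain ⟨d, hd, hde⟩ := ih (L := A ++ B)
      (by simp only [List.length_append, List.length_cons, List.length_nil] at hlen ⊢; omega) hAB
      (fun s h1 h2 => rw'_of_nWd_eq g hL.wd hAB.wd (F := F) (c := 1) (d := c)
        (by rw [map_one, one_mul, e]) h2 ▸ hpos s h1 h2)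
    exact ⟨c * d, hcK.mul hd, by rw [e, hde, map_mul]⟩

theorem nWd_inv_mul (g : T.Good) : ∀ {L : List ℕ}, KW T K L →
    ∃ d : ℕ → Fˣ, KSupp K d ∧ (nWd g F L)⁻¹ = nWd g F L.reverse * tor T F d
  | [], _ => ⟨1, KSupp.one, by simp⟩
  | k :: L, h => by
    obtain ⟨⟨hk, hkK⟩, hL⟩ := KW.cons_iff.1 h
    obtain ⟨d, hd, hde⟩ := nWd_inv_mul g hL
    obtain ⟨u, hu⟩ := nG_tor_right (F := F) g hk d
    refine ⟨d * Pi.mulSingle k u * Pi.mulSingle k (-1),
      (hd.mul (KSupp.single hkK u)).mul (KSupp.single hkK _), ?_⟩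
    have hinv : (nG g F k)⁻¹ = nG g F k * tor T F (Pi.mulSingle k (-1)) := by
      refine inv_eq_of_mul_eq_one_right ?_
      rw [← mul_assoc, nG_sq g hk, ← hS_eq_tor, ← hS_mul, neg_one_mul, _root_.neg_neg, hS_one]
    rw [List.reverse_cons, nWd_append, nWd_cons, nWd_cons, nWd_nil, mul_one, mul_inv_rev, hde,
      hinv, mul_assoc, ← mul_assoc (tor T F d), hu, map_mul (tor T F) (d * _)]
    simp only [mul_assoc]

/-- Equal monomials with words in `K` have torus parts differing by an element supported on `K`. -/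
theorem kword_unique (g : T.Good) {L L' : List ℕ} (hL : KW T K L) (hL' : KW T K L')
    {c c' : ℕ → Fˣ} (h : nWd g F L * tor T F c = nWd g F L' * tor T F c') :
    ∃ e : ℕ → Fˣ, KSupp K e ∧ tor T F c' = tor T F (c * e) := by
  obtain ⟨d, hd, hde⟩ := nWd_inv_mul (F := F) g hL'
  have h1 : tor T F c' = nWd g F L'.reverse * tor T F d * nWd g F L * tor T F c := by
    rw [← hde, mul_assoc, h, inv_mul_cancel_left]
  obtain ⟨e, he, hee⟩ := kword_tor (F := F) g hL d
  rw [mul_assoc (nWd g F L'.reverse), hee, ← mul_assoc, ← nWd_append, mul_assoc, ← map_mul] at h1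
  set M := L'.reverse ++ L
  have hM : KW T K M := KW.append_iff.2 ⟨hL'.reverse, hL⟩
  have hfix : ∀ s < T.n, T.rw' M s = s := fun s hs => by
    refine rw'_of_nWd_eq g hM.wd (M := []) (by simp [Wd]) (F := F) (c := 1)
      (d := c' * (d * e * c)⁻¹) ?_ hs
    rw [map_one, one_mul, nWd_nil, mul_one, map_mul, map_inv, h1, mul_inv_cancel_right]
  obtain ⟨a, ha, hae⟩ := kword_torus_of_pos (F := F) g M.length le_rfl hM
    fun s h1 h2 => by rw [hfix s h2]; exact h1
  refine ⟨a * d * e, (ha.mul hd).mul he, ?_⟩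
  rw [h1, hae, ← map_mul]
  congr 1
  rw [← mul_assoc, ← mul_assoc, mul_comm]

/-- A word in `K` keeps the other fundamental roots positive. -/
theorem kword_pos (g : T.Good) {L : List ℕ} (hL : KW T K L) {j : ℕ} (hj : j < T.l) (hjK : j ∉ K) :
    T.N ≤ T.rw' L (T.smp j) ∧ T.c (T.rw' L (T.smp j)) j = 1 := by
  induction L with
  | nil => exact ⟨g.smp_ge hj, by rw [rw'_nil, c_smp g hj hj, if_pos rfl]⟩
  | cons k L ih =>
    obtain ⟨⟨hk, hkK⟩, hL'⟩ := KW.cons_iff.1 hL
    obtain ⟨h1, h2⟩ := ih hL'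
    have hjk : j ≠ k := fun e => hjK (by rw [e]; exact hkK)
    have hlt := rw'_lt g hL'.wd (g.smp_lt hj)
    rw [rw'_cons]
    refine ⟨g.ref_pos hk hlt h1 fun e => ?_, ?_⟩
    · rw [e, c_smp g hk hj, if_neg hjk] at h2
      exact zero_ne_one h2
    · rw [((g.refl' hk hlt).2.2.2.2.2.2.2.2 j hj).2, if_neg hjk, h2]

end Cfsg.Agent.Richen
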