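import Cfsg.Agent.Lib.Richen.ChevExist
import Cfsg.Agent.Lib.Lie.ChevTorus

/-!
# The number of semisimple classes

When the torus is the full `(Fˣ)^l`, the simple modules in the defining characteristic are
parametrised by `q^l` weights, so there are `q^l` classes of elements of order prime to `p`.
-/

set_option autoImplicit false
set_option linter.style.haveILetI false
set_option linter.unusedSectionVars false

open scoped Classical

namespace Cfsg.Agent.Richen

open Cfsg.Lie Cfsg.Agent.Chev Cfsg.Agent.Chev.Tab

universe v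

variable {T : Tab} {F : Type v} [Field F] [Fintype F]

/-- A torus of full order has injective parametrisation. -/
theorem tor_injective (g : T.Good) {C : TorCert} (hC : T.checkTor C = true)
    (hg : Nat.gcd (Fintype.card F - 1) C.d ^ C.k = 1) :
    ∀ c d : ℕ → Fˣ, tor T F c = tor T F d → ∀ j < T.l, c j = d j := by
  let φ : (Fin T.l → Fˣ) →* GL T.D.Idx F := (tor T F).comp (extC T F)
  have hrange : φ.range = T.D.diagonalSubgroup F := by
    rw [diagonalSubgroup_eq g]
    refine le_antisymm ?_ ?_
    · rintro _ ⟨c, rfl⟩; exact ⟨_, rfl⟩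
    · rintro _ ⟨c, rfl⟩
      exact ⟨fun j => c j, tor_congr g fun j hj => by simp [extC, hj]⟩
  have hcard : Nat.card φ.range = (Fintype.card F - 1) ^ T.l := by
    rw [hrange, ← card_diagonal_mul (F := F) g hC, hg, one_mul]
  have hinj : Function.Injective φ := by
    rw [← MonoidHom.ker_eq_bot_iff, ← Subgroup.index_ker φ] at *
    have h := Subgroup.card_mul_index φ.ker
    rw [Nat.card_eq_fintype_card (α := Fin T.l → Fˣ), Fintype.card_fun, Fintype.card_fin,
      Fintype.card_units, hcard] at h
    have hpos : 0 < (Fintype.card F - 1) ^ T.l :=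
      pow_pos (by have := Fintype.one_lt_card (α := F); omega) _
    exact Subgroup.card_eq_one.1 (by nlinarith [h])
  intro c d h j hj
  have e : ∀ c : ℕ → Fˣ, tor T F c = φ (fun j => c j) := fun c =>
    tor_congr g fun j hj => by simp [extC, hj]
  rw [e c, e d] at h
  exact congrFun (hinj h) ⟨j, hj⟩

variable {k : Type v} [Field k] [IsAlgClosed k] (p : ℕ) [Fact p.Prime] [CharP F p] [CharP k p]

include p in
theorem units_pred_ne_zero : ((Fintype.card Fˣ : ℕ) : k) = -1 := by
  obtain ⟨q, -, hq⟩ := FiniteField.card F p
  rw [Fintype.card_units, Nat.cast_sub Fintype.card_pos, hq, Nat.cast_pow, CharP.cast_eq_zero k p,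
    zero_pow q.pos.ne', Nat.cast_one, zero_sub]

include p in
theorem card_characters : Nat.card (Fˣ →* kˣ) = Fintype.card F - 1 := by
  have hne : ((Monoid.exponent Fˣ : ℕ) : k) ≠ 0 := by
    intro e
    obtain ⟨m, hm⟩ : Monoid.exponent Fˣ ∣ Fintype.card Fˣ := Group.exponent_dvd_card
    have := units_pred_ne_zero (F := F) (k := k) p
    rw [hm, Nat.cast_mul, e, zero_mul] at this
    exact neg_ne_zero.2 one_ne_zero this.symm
  haveI : NeZero ((Monoid.exponent Fˣ : ℕ) : k) := ⟨hne⟩
  rw [Nat.card_congr (CommGroup.monoidHom_mulEquiv_of_hasEnoughRootsOfUnity Fˣ k).some.toEquiv,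
    Nat.card_eq_fintype_card, Fintype.card_units]

variable (k)

include k p in
/-- Steinberg's count: `q^l` classes of elements of order prime to `p`. -/
theorem card_semisimple_classes (g : T.GoodA)
    (hinj : ∀ c d : ℕ → Fˣ, tor T F c = tor T F d → ∀ j < T.l, c j = d j) :
    Nat.card {c : ConjClasses ↥(T.D.group F) // ∃ x : ↥(T.D.group F), ConjClasses.mk x = c ∧
      (orderOf x).Coprime p} = Fintype.card F ^ T.l := by
  have hq1 : 1 ≤ Fintype.card F := Fintype.card_pos
  haveI : Finite (Fˣ →* kˣ) := Nat.finite_of_card_ne_zero (by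
    rw [card_characters p]
    have := Fintype.one_lt_card (α := F)
    omega)
  let e : Fin (Fintype.card F - 1) ≃ (Fˣ →* kˣ) :=
    (finCongr (card_characters p).symm).trans (Finite.equivFin _).symm
  -- labels and their weights
  let ι := Fin T.l → Option (Fin (Fintype.card F - 1))
  let lab : ι → ℕ → Option (Fˣ →* kˣ) := fun a i =>
    if h : i < T.l then (a ⟨i, h⟩).map e else none
  let chi : ι → ℕ → Fˣ →* k := fun a i =>
    (lab a i).elim 1 fun ψ => (Units.coeHom k).comp ψ
  let J : ι → Set ℕ := fun a => {i | lab a i = some 1}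
  have hJ : ∀ a, ∀ i ∈ J a, chi a i = 1 := fun a i hi => by
    show (lab a i).elim 1 _ = 1
    rw [show lab a i = some 1 from hi]
    exact MonoidHom.ext fun u => rfl
  choose d S z hS hE using fun a => exists_simple_of_weight g hinj p (chi a) (J a) (hJ a)
  let eps : ι → ℕ → k := fun a i =>
    @ite k (i ∈ J a) (Classical.propDecidable _) 0 (∑ u : Fˣ, chi a i u)
  have hsum : ∀ ψ : Fˣ →* k, (∑ u : Fˣ, ψ u) = if ψ = 1 then -1 else 0 := fun ψ => by
    rw [sum_hom_units]
    split_ifs
    · exact units_pred_ne_zero p
    · exact Nat.cast_zero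
  have heps : ∀ a i, eps a i = (lab a i).elim (-1) fun _ => 0 := by
    intro a i
    simp only [eps]
    rcases h : lab a i with _ | ψ
    · rw [if_neg (fun hi => by rw [show lab a i = some 1 from hi] at h; cases h), hsum,
        if_pos (show chi a i = 1 by simp only [chi, h]; rfl)]
      rfl
    · by_cases hψ : ψ = 1
      · rw [if_pos (show i ∈ J a from h.trans (congrArg some hψ))]; rfl
      · rw [if_neg (show i ∉ J a from fun hi => hψ (Option.some.inj (h.symm.trans hi))), hsum,
          if_neg]
        · rfl
        · intro hc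
          refine hψ (MonoidHom.ext fun u => Units.ext ?_)
          simpa [chi, h] using DFunLike.congr_fun hc u
  have hne : ∀ a b, ∀ f : (Fin (d a) → k) ≃ₗ[k] (Fin (d b) → k),
      (∀ x w, f (S a x w) = S b x (f w)) → a = b := by
    intro a b f hf
    have h1 := (hE a).map g f.toLinearMap hf fun h =>
      (hE a).ne ((LinearEquiv.map_eq_zero_iff f).1 h)
    funext ⟨i, hi⟩
    obtain ⟨hc, he⟩ := eig_unique p h1 (hE b) (hS b) i hi
    change eps a i = eps b i at he
    rw [heps, heps] at he
    refine Option.map_injective e.injective ?_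
    have : lab a i = lab b i := by
      rcases ha : lab a i with _ | ψ <;> rcases hb : lab b i with _ | ψ' <;> rw [ha, hb] at he
      · exact absurd he (neg_ne_zero.2 one_ne_zero)
      · exact absurd he.symm (neg_ne_zero.2 one_ne_zero)
      · refine congrArg some (MonoidHom.ext fun u => Units.ext ?_)
        simpa [chi, ha, hb] using DFunLike.congr_fun hc u
    simpa only [lab, dif_pos hi] using this
  have hex : ∀ (n : ℕ) (ρ : Representation k ↥(T.D.group F) (Fin n → k)), IsSimp ρ →
      ∃ a, ρ.character = (S a).character := by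
    intro n ρ hρ
    haveI := hρ.1
    obtain ⟨w, χ, ε, hw⟩ := exists_eig' p (g := g) (ρ := ρ)
    let ψ : ℕ → Fˣ →* kˣ := fun i => (χ i).toHomUnits
    let a : ι := fun i => if ε i = 0 then some (e.symm (ψ i)) else none
    have hlab : ∀ i < T.l, lab a i = if ε i = 0 then some (ψ i) else none := by
      intro i hi
      simp only [lab, dif_pos hi, a]
      split_ifs <;> simp
    have htriv : ∀ i < T.l, ε i ≠ 0 → χ i = 1 ∧ ε i = -1 := by
      intro i hi h0
      have h2 := (eig_eps p hw hi).resolve_left h0
      rw [hsum] at h2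
      split_ifs at h2 with h3
      · exact ⟨h3, h2⟩
      · exact absurd h2 h0
    have hchi : ∀ i < T.l, chi a i = χ i := by
      intro i hi
      simp only [chi, hlab i hi]
      split_ifs with h0
      · exact MonoidHom.ext fun u => (χ i).coe_toHomUnits u
      · exact (htriv i hi h0).1.symm
    have hep : ∀ i < T.l, eps a i = ε i := by
      intro i hi
      rw [heps, hlab i hi]
      split_ifs with h0
      · exact h0.symm
      · exact (htriv i hi h0).2.symm
    have hE' : Eig g (S a) (z a) χ ε :=
      ⟨(hE a).ne, (hE a).fix, fun i hi u => by rw [(hE a).tor i hi u, hchi i hi],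
        fun i hi => by rw [(hE a).top i hi]; exact congrArg (· • z a) (hep i hi)⟩
    obtain ⟨f, hf⟩ := equiv_of_eig p hw hE' hρ (hS a)
    refine ⟨a, funext fun x => ?_⟩
    have hx : S a x = f.conj (ρ x) := LinearMap.ext fun v => by
      rw [LinearEquiv.conj_apply_apply, hf, LinearEquiv.apply_symm_apply]
    show LinearMap.trace k _ (ρ x) = LinearMap.trace k _ (S a x)
    rw [hx, LinearMap.trace_conj']
  rw [card_regular_classes d S hS hne hex]
  simp only [ι, Fintype.card_fun, Fintype.card_option, Fintype.card_fin]
  rw [Nat.sub_add_cancel hq1]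

end Cfsg.Agent.Richen
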