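import Cfsg.Agent.Lib.Richen.ChevSemisimple
import Cfsg.Agent.Lib.Lie.GoodA
import Cfsg.Agent.Lib.Lie.OrderG2
import Cfsg.Agent.Lib.Lie.OrderB2
import Cfsg.Agent.Lib.Lie.OrderD4
import Cfsg.Agent.Lib.Lie.OrderF4
import Cfsg.Agent.Lib.Lie.OrderE6
import Cfsg.Agent.Lib.Lie.OrderE7
import Cfsg.Agent.Lib.Lie.OrderE8

/-! The count of semisimple classes for the tabulated types. -/

set_option autoImplicit false

namespace Cfsg.Agent.Richen

open Cfsg.Lie Cfsg.Agent.Chev Cfsg.Agent.Chev.Tab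

universe v

theorem card_ss {T : Tab} (g : T.GoodA) {C : TorCert} (hC : T.checkTor C = true) (F : Type v)
    [Field F] [Fintype F] (p : ℕ) [Fact p.Prime] [CharP F p]
    (hd : Nat.gcd (Fintype.card F - 1) C.d ^ C.k = 1) :
    Nat.card {c : ConjClasses ↥(T.D.group F) // ∃ x : ↥(T.D.group F), ConjClasses.mk x = c ∧
      (orderOf x).Coprime p} = Fintype.card F ^ T.D.rank := by
  haveI : CharP (AlgebraicClosure F) p := charP_of_injective_algebraMap' F p
  exact (card_semisimple_classes (AlgebraicClosure F) p g (tor_injective g.toGood hC hd)).trans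
    (congrArg (Fintype.card F ^ ·) g.toGood.rank_eq.symm)

theorem goodA_G2 : G2Data.tab.GoodA := ⟨G2Data.good, by decide +kernel⟩

theorem goodA_B2 : B2Data.tab.GoodA := ⟨B2Data.good, by decide +kernel⟩

theorem goodA_D4 : D4Data.tab.GoodA := ⟨D4Data.good, by decide +kernel⟩

theorem goodA_F4 : F4Data.tab.GoodA := ⟨F4Data.good, by decide +kernel⟩

theorem goodA_E6 : E6Data.tab.GoodA := ⟨E6Data.good, by decide +kernel⟩

theorem goodA_E7 : E7Data.tab.GoodA := ⟨E7Data.good, by decide +kernel⟩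

theorem goodA_E8 : E8Data.tab.GoodA := ⟨E8Data.good, by decide +kernel⟩

theorem gcd_two {F : Type v} [Field F] [Fintype F] [CharP F 2] :
    Nat.gcd (Fintype.card F - 1) 2 = 1 := by
  haveI : Fact (Nat.Prime 2) := ⟨Nat.prime_two⟩
  obtain ⟨n, -, hn⟩ := FiniteField.card F 2
  have he : 2 ∣ Fintype.card F := hn ▸ dvd_pow_self 2 n.pos.ne'
  have h1 : 1 ≤ Fintype.card F := Fintype.card_pos
  refine (Nat.prime_two.coprime_iff_not_dvd.2 fun h => ?_).symm
  omega

end Cfsg.Agent.Richen
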