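import Mathlib

/-!
# Elementary facts on modular representations

Traces in characteristic `p` depend only on the `p`-regular part, they are additive on short exact
sequences, and characters of pairwise non-isomorphic simple representations are independent.
-/

set_option autoImplicit false

namespace Cfsg.Agent.Richen

universe v

variable {k : Type v} [Field k] {G : Type v} [Group G]

/-- simple representations -/
def IsSimp {V : Type v} [AddCommGroup V] [Module k V] (ρ : Representation k G V) : Prop :=
  Nontrivial V ∧ ∀ W : Submodule k V, (∀ g : G, ∀ w ∈ W, ρ g w ∈ W) → W = ⊥ ∨ W = ⊤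

theorem IsSimp.isIrreducible {V : Type v} [AddCommGroup V] [Module k V] {ρ : Representation k G V}
    (h : IsSimp ρ) : ρ.IsIrreducible := by
  haveI := h.1
  haveI : Nontrivial (Subrepresentation ρ) := ⟨⟨⊥, ⊤, fun e => by
    have e' := congrArg Subrepresentation.toSubmodule e
    exact bot_ne_top e'⟩⟩
  refine ⟨fun W => ?_⟩
  rcases h.2 W.toSubmodule (fun g w hw => W.apply_mem_toSubmodule g hw) with e | e
  · exact Or.inl (Subrepresentation.toSubmodule_injective e)
  · exact Or.inr (Subrepresentation.toSubmodule_injective e)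

theorem trace_add {V : Type v} [AddCommGroup V] [Module k V] [FiniteDimensional k V]
    (f : V →ₗ[k] V) (W : Submodule k V) (hW : ∀ w ∈ W, f w ∈ W) :
    LinearMap.trace k V f = LinearMap.trace k W (f.restrict hW) +
      LinearMap.trace k (V ⧸ W) (W.mapQ W f hW) := by
  obtain ⟨C, hC⟩ := W.exists_isCompl
  let π : V →ₗ[k] W := W.projectionOnto C hC
  obtain ⟨s, hs⟩ := LinearMap.exists_rightInverse_of_surjective W.mkQ (Submodule.range_mkQ W)
  let s' : V ⧸ W →ₗ[k] V := s - W.subtype ∘ₗ π ∘ₗ s
  have hq : W.mkQ ∘ₗ s' = LinearMap.id := by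
    refine LinearMap.ext fun x => ?_
    have := LinearMap.congr_fun hs x
    simpa [s', (Submodule.Quotient.mk_eq_zero W).2 (π (s x)).2] using this
  have hid : W.subtype ∘ₗ π + s' ∘ₗ W.mkQ = LinearMap.id := by
    refine LinearMap.ext fun x => ?_
    set w := s (W.mkQ x) - x with hw
    have hwW : w ∈ W := by
      rw [← Submodule.Quotient.eq W]
      simpa using LinearMap.congr_fun hs (W.mkQ x)
    have hπ : π w = ⟨w, hwW⟩ := Submodule.projectionOnto_apply_left hC ⟨w, hwW⟩
    have e : s (W.mkQ x) = x + w := by rw [hw]; abel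
    simp only [LinearMap.add_apply, LinearMap.comp_apply, s', LinearMap.sub_apply, e, map_add, hπ,
      Submodule.subtype_apply, LinearMap.id_apply]
    abel
  calc LinearMap.trace k V f = LinearMap.trace k V (f ∘ₗ W.subtype ∘ₗ π) +
        LinearMap.trace k V (f ∘ₗ s' ∘ₗ W.mkQ) := by
        rw [← map_add, ← LinearMap.comp_add, hid, LinearMap.comp_id]
    _ = _ := by
      congr 1
      · rw [show f ∘ₗ W.subtype ∘ₗ π = W.subtype ∘ₗ (f.restrict hW ∘ₗ π) from LinearMap.ext fun x => rfl,
          LinearMap.trace_comp_comm']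
        congr 1
        refine LinearMap.ext fun x => ?_
        simp [π]
      · rw [show f ∘ₗ s' ∘ₗ W.mkQ = (f ∘ₗ s') ∘ₗ W.mkQ from rfl, LinearMap.trace_comp_comm']
        congr 1
        rw [← LinearMap.comp_assoc, show W.mkQ ∘ₗ f = W.mapQ W f hW ∘ₗ W.mkQ from LinearMap.ext fun _ => rfl,
          LinearMap.comp_assoc, hq, LinearMap.comp_id]

variable [Finite G] (p : ℕ) [Fact p.Prime] [CharP k p]

theorem exists_regular_part (g : G) :
    ∃ s u : G, g = s * u ∧ Commute s u ∧ (orderOf s).Coprime p ∧ ∃ a : ℕ, u ^ p ^ a = 1 := by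
  obtain ⟨a, r, hr, hord⟩ := Nat.exists_eq_pow_mul_and_not_dvd
    (orderOf_pos g).ne' p (Fact.out : p.Prime).ne_one
  have hcop : r.Coprime (p ^ a) :=
    Nat.Coprime.pow_right _ ((Fact.out : p.Prime).coprime_iff_not_dvd.2 hr).symm
  obtain ⟨e, he1, he0⟩ := Nat.chineseRemainder hcop 1 0
  refine ⟨g ^ e, g * (g ^ e)⁻¹, ?_, ?_, ?_, a, ?_⟩
  · rw [← mul_assoc, ← pow_succ, pow_succ', mul_assoc, mul_inv_cancel, mul_one]
  · exact ((Commute.refl g).pow_left e).mul_right (Commute.refl _).inv_right
  · refine Nat.Coprime.coprime_dvd_left (orderOf_dvd_of_pow_eq_one ?_)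
      ((Fact.out : p.Prime).coprime_iff_not_dvd.2 hr).symm
    rw [← pow_mul, ← orderOf_dvd_iff_pow_eq_one, hord]
    exact Nat.mul_dvd_mul_right (Nat.modEq_zero_iff_dvd.1 he0) r
  · have hh : Commute g (g ^ e)⁻¹ := ((Commute.refl g).pow_right e).inv_right
    rw [hh.mul_pow, inv_pow, mul_inv_eq_one, ← pow_mul, pow_eq_pow_iff_modEq, hord,
      mul_comm (p ^ a) r]
    simpa using (he1.symm.mul_right' (p ^ a))

theorem character_mul_unipotent {V : Type v} [AddCommGroup V] [Module k V] [FiniteDimensional k V]
    (ρ : Representation k G V) {s u : G} (h : Commute s u) {a : ℕ} (hu : u ^ p ^ a = 1) :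
    ρ.character (s * u) = ρ.character s := by
  show LinearMap.trace k V (ρ (s * u)) = LinearMap.trace k V (ρ s)
  rcases subsingleton_or_nontrivial V with hV | hV
  · congr 1
    exact LinearMap.ext fun x => Subsingleton.elim _ _
  haveI : CharP (Module.End k V) p :=
    charP_of_injective_algebraMap (FaithfulSMul.algebraMap_injective k (Module.End k V)) p
  have hn : IsNilpotent (ρ u - algebraMap k (Module.End k V) 1) := by
    refine ⟨p ^ a, ?_⟩
    rw [map_one, sub_pow_char_pow_of_commute p a (Commute.one_right _), one_pow, ← map_pow, hu,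
      map_one, sub_self]
  have := LinearMap.trace_comp_eq_mul_of_commute_of_isNilpotent (f := ρ s) (g := ρ u) 1
    (h.map ρ) hn
  rw [map_mul, Module.End.mul_eq_comp, this, one_mul]

variable {p}

/-- Characters of pairwise non-isomorphic simple representations are linearly independent. -/
theorem character_independent [IsAlgClosed k] {ι : Type} [Fintype ι] (d : ι → ℕ)
    (S : ∀ i, Representation k G (Fin (d i) → k)) (hs : ∀ i, IsSimp (S i))
    (hne : ∀ i j, ∀ e : (Fin (d i) → k) ≃ₗ[k] (Fin (d j) → k),
      (∀ g v, e (S i g v) = S j g (e v)) → i = j)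
    (a : ι → k) (ha : ∀ g : G, ∑ i, a i * (S i).character g = 0) (i₀ : ι) : a i₀ = 0 := by
  classical
  haveI : ∀ i, (S i).IsIrreducible := fun i => (hs i).isIrreducible
  haveI := (hs i₀).1
  have hd : 0 < d i₀ := Nat.pos_of_ne_zero fun h0 => by
    have hsub : Subsingleton (Fin (d i₀) → k) := by rw [h0]; infer_instance
    exact not_subsingleton _ hsub
  let j₀ : Fin (d i₀) := ⟨0, hd⟩
  let P : (S i₀).asModule →ₗ[k] (S i₀).asModule :=
    (LinearMap.proj j₀ : (Fin (d i₀) → k) →ₗ[k] k).smulRight (Pi.single j₀ (1 : k))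
  let R := MonoidAlgebra k G
  let M := ∀ i, (S i).asModule
  have hoff : ∀ i j, i ≠ j → ∀ φ : (S i).asModule →ₗ[R] (S j).asModule, φ = 0 := by
    intro i j hij φ
    rcases LinearMap.bijective_or_eq_zero φ with hb | h0
    · refine absurd (hne i j ((LinearEquiv.ofBijective φ hb).restrictScalars k) fun g v => ?_) hij
      show φ ((S i).asModuleEquiv.symm (S i g v)) = S j g (φ v)
      rw [Representation.asModuleEquiv_symm_map_rho, map_smul]
      simp [R]
      rfl
    · exact h0
  have hdiag : ∀ (φ : Module.End R M), ∃ c : ι → k, ∀ (m : M) (i : ι), φ m i = c i • m i := by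
    intro φ
    have hc : ∀ i, ∃ c : k, ∀ x, φ (Pi.single i x) i = c • x := by
      intro i
      obtain ⟨c, hc⟩ := (IsSimpleModule.algebraMap_end_bijective_of_isAlgClosed
        (A := R) (V := (S i).asModule) k).2
        ((LinearMap.proj i).comp (φ.comp (LinearMap.single R (fun i => (S i).asModule) i)))
      exact ⟨c, fun x => (LinearMap.congr_fun hc x).symm.trans rfl⟩
    choose c hc using hc
    refine ⟨c, fun m i => ?_⟩
    conv_lhs => rw [← Finset.univ_sum_single m, map_sum, Finset.sum_apply]
    rw [Finset.sum_eq_single i, hc]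
    · intro j _ hj
      exact LinearMap.congr_fun (hoff j i hj ((LinearMap.proj i).comp
        (φ.comp (LinearMap.single R (fun i => (S i).asModule) j)))) (m j)
    · simp
  let f : Module.End (Module.End R M) M :=
    { toFun := fun m => Pi.single i₀ (P (m i₀))
      map_add' := fun x y => by
        show (Pi.single i₀ (P (x i₀ + y i₀)) : M) = _
        rw [map_add, Pi.single_add]
      map_smul' := fun φ m => by
        obtain ⟨c, hc⟩ := hdiag φ
        funext i
        show (Pi.single i₀ (P (φ m i₀)) : M) i = φ (Pi.single i₀ (P (m i₀))) i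
        rw [hc, hc]
        rcases eq_or_ne i i₀ with rfl | hi
        · rw [Pi.single_eq_same, Pi.single_eq_same]; exact map_smul P _ _
        · rw [Pi.single_eq_of_ne hi, Pi.single_eq_of_ne hi, smul_zero] }
  let e : ∀ i, Fin (d i) → (S i).asModule := fun i j => (Pi.single j 1 : Fin (d i) → k)
  let s : Finset M := Finset.univ.image fun q : (i : ι) × Fin (d i) => (Pi.single q.1 (e q.1 q.2) : M)
  obtain ⟨r, hr⟩ := jacobson_density f s
  have hr' : ∀ i j, (Pi.single i₀ (P ((Pi.single i (e i j) : M) i₀)) : M) i =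
      r • ((Pi.single i (e i j) : M) i) := fun i j =>
    congrFun (hr (Pi.single i (e i j)) (Finset.mem_image.2 ⟨⟨i, j⟩, Finset.mem_univ _, rfl⟩)) i
  have hact₀ : (S i₀).asAlgebraHom r = P := by
    refine LinearMap.pi_ext' fun j => LinearMap.ext_ring ?_
    have h := hr' i₀ j
    rw [Pi.single_eq_same, Pi.single_eq_same] at h
    exact h.symm
  have hact : ∀ i ≠ i₀, (S i).asAlgebraHom r = 0 := by
    intro i hi
    refine LinearMap.pi_ext' fun j => LinearMap.ext_ring ?_
    have h := hr' i j
    rw [Pi.single_eq_of_ne hi, Pi.single_eq_same] at h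
    exact h.symm
  have hlin : ∀ r : R, ∑ i, a i * LinearMap.trace k _ ((S i).asAlgebraHom r) = 0 := by
    intro r
    induction r using MonoidAlgebra.induction_on with
    | of g => simpa [Representation.character] using ha g
    | add x y hx hy => simp [mul_add, Finset.sum_add_distrib, hx, hy]
    | smul c x hx =>
      simp only [map_smul, smul_eq_mul, mul_left_comm (a _) c, ← Finset.mul_sum, hx, mul_zero]
  have h := hlin r
  rw [Finset.sum_eq_single i₀ (fun i _ hi => by rw [hact i hi, map_zero, mul_zero]) (by simp), hact₀] at h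
  have htr : LinearMap.trace k (Fin (d i₀) → k) P = 1 :=
    (LinearMap.trace_smulRight (R := k) (M := Fin (d i₀) → k) _ _).trans (by simp)
  erw [htr] at h
  simpa using h

end Cfsg.Agent.Richen
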